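import Groth.Agent.Ega3B.KunnethMain

/-!
# The Künneth isomorphism, `A`-linearly

* `kunneth_lin`: linear form of `Groth.Agent.Ega3B.KunnethFin.kunneth`.
* `kunneth_of_cover_lin`: linear form of `Groth.Agent.Ega3B.KunnethGeo.kunneth_of_cover`.
-/

set_option autoImplicit false
universe u

open TensorProduct

namespace K980.KunLin

section Alg

open Groth.Agent.Ega3B.KunnethAlg Groth.Agent.Ega3B.KunnethFin

variable {A : Type u} [CommRing A]
  {C : ℕ → Type u} [∀ p, AddCommGroup (C p)] [∀ p, Module A (C p)] {d : ∀ p, C p →ₗ[A] C (p + 1)}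
  {D : ℕ → Type u} [∀ p, AddCommGroup (D p)] [∀ p, Module A (D p)] {e : ∀ p, D p →ₗ[A] D (p + 1)}

/-- **Künneth formula** from a model of the total complex. -/
theorem kunneth_lin (hd : ∀ p, d (p + 1) ∘ₗ d p = 0) (he : ∀ p, e (p + 1) ∘ₗ e p = 0)
    (hC : ∀ p, Module.Flat A (C p)) (hH : ∀ p, Module.Flat A (LinearMap.ker (d p) ⧸ bz d p))
    (m : ℕ) (hm : ∀ p, m ≤ p → Subsingleton (C p))
    {E : ℕ → Type u} [∀ n, AddCommGroup (E n)] [∀ n, Module A (E n)] (dE : ∀ n, E n →+ E (n + 1))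
    (Psi : ∀ n, (∀ p q, C p ⊗[A] D q) →+ E n)
    (hPsi : ∀ n (r : A) x, Psi n (r • x) = r • Psi n x)
    (h0 : ∀ n x, Psi n x = 0 ↔ ∀ p q, p + q = n → x p q = 0)
    (hs : ∀ n, Function.Surjective (Psi n))
    (hD : ∀ n x, Psi (n + 1) (dtot d e x) = dE n (Psi n x))
    (n : ℕ) {HE : Type u} [AddCommGroup HE] [Module A HE] (tE : (dE n).ker →+ HE)
    (htEr : ∀ (r : A) (z w : (dE n).ker), w.1 = r • z.1 → tE w = r • tE z) (htE : Function.Surjective tE)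
    (hE : ∀ z, tE z = 0 ↔ z.1 ∈ bE dE n)
    {H H2 : ℕ → Type u} [∀ p, AddCommGroup (H p)] [∀ p, Module A (H p)] [∀ p, AddCommGroup (H2 p)]
    [∀ p, Module A (H2 p)]
    (t : ∀ p, LinearMap.ker (d p) →ₗ[A] H p) (ht : ∀ p, Function.Surjective (t p))
    (ht0 : ∀ p z, t p z = 0 ↔ z ∈ bz d p)
    (t2 : ∀ q, LinearMap.ker (e q) →ₗ[A] H2 q) (ht2 : ∀ q, Function.Surjective (t2 q))
    (ht20 : ∀ q z, t2 q z = 0 ↔ z ∈ bz e q) :
    Nonempty (HE ≃ₗ[A] DirectSum (Finset.antidiagonal n) fun pq => TensorProduct A (H pq.1.1) (H2 pq.1.2)) := by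
  classical
  let L : Type u := ∀ p q, LinearMap.ker (d p) ⊗[A] LinearMap.ker (e q)
  let cycH : L →+ (∀ p q, C p ⊗[A] D q) :=
    { toFun := cyc d e
      map_zero' := by
        funext p q
        exact map_zero (TensorProduct.map (LinearMap.ker (d p)).subtype (LinearMap.ker (e q)).subtype)
      map_add' := fun x y => by
        funext p q
        exact map_add (TensorProduct.map (LinearMap.ker (d p)).subtype (LinearMap.ker (e q)).subtype) _ _ }
  have hmem : ∀ ζ : L, Psi n (cyc d e ζ) ∈ (dE n).ker := fun ζ => by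
    rw [AddMonoidHom.mem_ker, ← hD, dtot_cyc, map_zero]
  let α : L →+ HE := tE.comp (((Psi n).comp cycH).codRestrict (dE n).ker hmem)
  have hα0 : ∀ ζ : L, α ζ = 0 ↔ Psi n (cyc d e ζ) ∈ bE dE n := fun ζ => hE _
  have hα : Function.Surjective α := by
    intro y
    obtain ⟨z, rfl⟩ := htE y
    obtain ⟨x, hx⟩ := hs n z.1
    have hx0 : ∀ p q, dtot d e (res n x) p q = 0 := by
      intro p q
      by_cases hpq : p + q = n + 1
      · rw [dtot_res_of_eq n x hpq]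
        have h1 : Psi (n + 1) (dtot d e x) = 0 := by
          rw [hD, hx]
          exact z.2
        exact (h0 (n + 1) _).1 h1 p q hpq
      · exact dtot_res_of_ne n x hpq
    obtain ⟨w, ζ, h1⟩ := surj hd he hC hH m hm (res n x) hx0
    refine ⟨ζ, ?_⟩
    rw [← sub_eq_zero]
    change tE ⟨Psi n (cyc d e ζ), hmem ζ⟩ - tE z = 0
    rw [← map_sub, hE]
    have h2 : Psi n (cyc d e ζ) - z.1 = -Psi n (dtot d e w) := by
      have h3 : Psi n x = Psi n (cyc d e ζ) + Psi n (dtot d e w) := by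
        rw [← map_add]
        refine Psi_congr Psi h0 fun p q hpq => ?_
        rw [← res_of_eq x hpq, h1]
        rfl
      rw [← hx, h3]
      abel
    change Psi n (cyc d e ζ) - z.1 ∈ bE dE n
    rw [h2]
    exact neg_mem (Psi_dtot_mem dE Psi h0 hD n w)
  let β : L →+ (∀ pq : Finset.antidiagonal n, TensorProduct A (H pq.1.1) (H2 pq.1.2)) :=
    { toFun := fun ζ pq => TensorProduct.map (t pq.1.1) (t2 pq.1.2) (ζ pq.1.1 pq.1.2)
      map_zero' := by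
        funext pq
        exact map_zero (TensorProduct.map (t pq.1.1) (t2 pq.1.2))
      map_add' := fun x y => by
        funext pq
        exact map_add (TensorProduct.map (t pq.1.1) (t2 pq.1.2)) _ _ }
  have hβ : Function.Surjective β := by
    intro y
    have h1 : ∀ p q, ∃ z : LinearMap.ker (d p) ⊗[A] LinearMap.ker (e q), ∀ h : p + q = n,
        TensorProduct.map (t p) (t2 q) z = y ⟨(p, q), Finset.mem_antidiagonal.2 h⟩ := by
      intro p q
      by_cases h : p + q = n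
      · obtain ⟨z, hz⟩ := TensorProduct.map_surjective (ht p) (ht2 q) (y ⟨(p, q), Finset.mem_antidiagonal.2 h⟩)
        exact ⟨z, fun _ => hz⟩
      · exact ⟨0, fun h' => absurd h' h⟩
    choose ζ hζ using h1
    refine ⟨ζ, ?_⟩
    funext pq
    obtain ⟨⟨p, q⟩, hpq⟩ := pq
    exact hζ p q (Finset.mem_antidiagonal.1 hpq)
  have hβ0 : ∀ ζ : L, β ζ = 0 ↔ ∀ p q, p + q = n → TensorProduct.map (t p) (t2 q) (ζ p q) = 0 := by
    intro ζ
    constructor
    · intro h p q hpq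
      exact congrFun h ⟨(p, q), Finset.mem_antidiagonal.2 hpq⟩
    · intro h
      funext pq
      exact h _ _ (Finset.mem_antidiagonal.1 pq.2)
  have key : ∀ ζ : L, α ζ = 0 ↔ β ζ = 0 := by
    intro ζ
    rw [hα0, hβ0]
    constructor
    · intro h
      have h1 : ∃ w : ∀ p q, C p ⊗[A] D q, ∀ p q,
          TensorProduct.map (LinearMap.ker (d p)).subtype (LinearMap.ker (e q)).subtype (res n ζ p q) =
            dtot d e w p q := by
        cases n with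
        | zero =>
          refine ⟨0, fun p q => ?_⟩
          have hz : dtot d e (0 : ∀ p q, C p ⊗[A] D q) p q = 0 := by
            cases p with
            | zero =>
              cases q with
              | zero => exact dtot_zero_zero _
              | succ q => rw [dtot_zero_succ, Pi.zero_apply, Pi.zero_apply, map_zero, neg_zero]
            | succ p =>
              cases q with
              | zero => rw [dtot_succ_zero, Pi.zero_apply, Pi.zero_apply, map_zero]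
              | succ q =>
                rw [dtot_succ_succ, Pi.zero_apply, Pi.zero_apply, Pi.zero_apply, Pi.zero_apply, map_zero, map_zero,
                  smul_zero, sub_zero]
          rw [hz]
          by_cases hpq : p + q = 0
          · rw [res_of_eq _ hpq]
            have h3 : Psi 0 (cyc d e ζ) = 0 := h
            exact (h0 0 _).1 h3 p q hpq
          · rw [res_of_ne _ hpq, map_zero]
        | succ k =>
          obtain ⟨y, hy⟩ : ∃ y, dE k y = Psi (k + 1) (cyc d e ζ) := h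
          obtain ⟨w, rfl⟩ := hs k y
          refine ⟨res k w, fun p q => ?_⟩
          by_cases hpq : p + q = k + 1
          · rw [dtot_res_of_eq k w hpq, res_of_eq _ hpq]
            have h3 : Psi (k + 1) (cyc d e ζ - dtot d e w) = 0 := by
              rw [map_sub, hD, hy, sub_self]
            have h4 := (h0 (k + 1) _).1 h3 p q hpq
            exact sub_eq_zero.1 h4
          · rw [dtot_res_of_ne k w hpq, res_of_ne _ hpq, map_zero]
      obtain ⟨w, hw⟩ := h1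
      intro p q hpq
      have h2 := inj hd he hC hH m hm (res n ζ) w hw p q
      rw [res_of_eq _ hpq] at h2
      rw [map_eq_zero_iff (bz d p) (bz e q) _ _ (ht p) (ht2 q) (ht0 p) (ht20 q)]
      exact (map_eq_zero_iff (bz d p) (bz e q) _ _ (Submodule.mkQ_surjective _) (Submodule.mkQ_surjective _)
        (fun z => Submodule.Quotient.mk_eq_zero _) (fun z => Submodule.Quotient.mk_eq_zero _) _).1 h2
    · intro h
      obtain ⟨w, hw⟩ := exists_dtot n ζ fun p q hpq =>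
        (map_eq_zero_iff (bz d p) (bz e q) _ _ (ht p) (ht2 q) (ht0 p) (ht20 q) _).1 (h p q hpq)
      rw [Psi_congr Psi h0 hw]
      exact Psi_dtot_mem dE Psi h0 hD n w
  have hker : α.ker = β.ker := by
    ext ζ
    exact key ζ
  let αl : L →ₗ[A] HE :=
    { toFun := α
      map_add' := map_add α
      map_smul' := fun r ζ => by
        refine htEr r _ _ ?_
        change Psi n (cyc d e (r • ζ)) = r • Psi n (cyc d e ζ)
        rw [← hPsi]
        congr 1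
        funext p q
        exact map_smul (TensorProduct.map (LinearMap.ker (d p)).subtype (LinearMap.ker (e q)).subtype) r _ }
  let βl : L →ₗ[A] (∀ pq : Finset.antidiagonal n, TensorProduct A (H pq.1.1) (H2 pq.1.2)) :=
    { toFun := β
      map_add' := map_add β
      map_smul' := fun r ζ => by
        funext pq
        exact map_smul (TensorProduct.map (t pq.1.1) (t2 pq.1.2)) r _ }
  have hkerl : LinearMap.ker αl = LinearMap.ker βl := by
    ext ζ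
    exact key ζ
  exact ⟨(αl.quotKerEquivOfSurjective hα).symm ≪≫ₗ Submodule.quotEquivOfEq _ _ hkerl ≪≫ₗ
    (βl.quotKerEquivOfSurjective hβ) ≪≫ₗ
        (DirectSum.linearEquivFunOnFintype A (Finset.antidiagonal n)
          fun pq => TensorProduct A (H pq.1.1) (H2 pq.1.2)).symm⟩

end Alg

section Geo

open CategoryTheory CategoryTheory.Limits AlgebraicGeometry Opposite TopologicalSpace
open Groth.Agent Groth.Agent.Ega3B Groth.Agent.Ega3B.KunnethSec Groth.Agent.Ega3B.KunnethGeo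
open CubeData BiCechData CombRes CoefSys FlatCohBC

section Box

variable (A : Type u) [CommRing A] {X₁ X₂ : Scheme.{u}} (f₁ : X₁ ⟶ Spec (CommRingCat.of A))
  (f₂ : X₂ ⟶ Spec (CommRingCat.of A)) (F₁ : X₁.Modules) (F₂ : X₂.Modules)

theorem preMu_smul (U₁ : X₁.Opens) (U₂ : X₂.Opens) (a : A) :
    letI := secAMod A f₁ F₁ U₁
    letI := secAMod A f₂ F₂ U₂
    ∀ z : Γ(F₁, U₁) ⊗[A] Γ(F₂, U₂), preMu f₁ f₂ U₁ U₂ F₁ F₂ (a • z) =
      toSec A (pullback.fst f₁ f₂ ≫ f₁) (box f₁ f₂ U₁ U₂) a • preMu f₁ f₂ U₁ U₂ F₁ F₂ z := by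
  let i1 := secAMod A f₁ F₁ U₁
  let i2 := secAMod A f₂ F₂ U₂
  intro z
  induction z using TensorProduct.induction_on with
  | zero => rw [smul_zero, map_zero, smul_zero]
  | add x y hx hy => rw [smul_add, map_add, map_add, smul_add, hx, hy]
  | tmul x y =>
    rw [TensorProduct.smul_tmul']
    refine (preMu_tmul f₁ f₂ U₁ U₂ F₁ F₂ _ _).trans ?_
    refine Eq.trans ?_ (congrArg _ (preMu_tmul f₁ f₂ U₁ U₂ F₁ F₂ _ _).symm)
    change (VarietyB.PullSec.sec (pullback.fst f₁ f₂) F₁ (V := box f₁ f₂ U₁ U₂) inf_le_left (toSec A f₁ U₁ a • x)) ⊗ₜ[Γ(pullback f₁ f₂, box f₁ f₂ U₁ U₂)]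
          (VarietyB.PullSec.sec (pullback.snd f₁ f₂) F₂ (V := box f₁ f₂ U₁ U₂) inf_le_right y) = _
    rw [VarietyB.PullSec.sec_smul, appLE_toSec, TensorProduct.smul_tmul']

/-- `KunnethSec.exists_boxIso` with linearity. -/
theorem exists_boxIso_lin (h₁ : Coh.IsQCoh F₁) (h₂ : Coh.IsQCoh F₂) :
    letI := fun U => secAMod A f₁ F₁ U
    letI := fun U => secAMod A f₂ F₂ U
    ∃ μ : ∀ (U₁ : X₁.Opens) (U₂ : X₂.Opens), (Γ(F₁, U₁) ⊗[A] Γ(F₂, U₂)) →+
        Γ(CohB1.tensorMod ((Scheme.Modules.pullback (pullback.fst f₁ f₂)).obj F₁)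
          ((Scheme.Modules.pullback (pullback.snd f₁ f₂)).obj F₂),
          (pullback.fst f₁ f₂ ⁻¹ᵁ U₁) ⊓ (pullback.snd f₁ f₂ ⁻¹ᵁ U₂)),
      (∀ (U₁ : X₁.Opens) (U₂ : X₂.Opens), IsAffineOpen U₁ → IsAffineOpen U₂ → Function.Bijective (μ U₁ U₂)) ∧
      (∀ (U₁ V₁ : X₁.Opens) (U₂ V₂ : X₂.Opens) (i₁ : V₁ ≤ U₁) (i₂ : V₂ ≤ U₂) (s : Γ(F₁, U₁)) (t : Γ(F₂, U₂)),
        μ V₁ V₂ ((F₁.presheaf.map (homOfLE i₁).op s) ⊗ₜ (F₂.presheaf.map (homOfLE i₂).op t)) =
        (CohB1.tensorMod ((Scheme.Modules.pullback (pullback.fst f₁ f₂)).obj F₁)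
          ((Scheme.Modules.pullback (pullback.snd f₁ f₂)).obj F₂)).presheaf.map
          (homOfLE (inf_le_inf (fun _ hx => i₁ hx) (fun _ hx => i₂ hx))).op (μ U₁ U₂ (s ⊗ₜ t))) ∧
      ∀ (U₁ : X₁.Opens) (U₂ : X₂.Opens) (a : A) (z : Γ(F₁, U₁) ⊗[A] Γ(F₂, U₂)),
        μ U₁ U₂ (a • z) = toSec A (pullback.fst f₁ f₂ ≫ f₁) (box f₁ f₂ U₁ U₂) a • μ U₁ U₂ z := by
  refine ⟨fun U₁ U₂ => (Ega1.TensorRestrict.toT (P₁ f₁ f₂ F₁) (P₂ f₁ f₂ F₂) (box f₁ f₂ U₁ U₂)).comp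
    (preMu f₁ f₂ U₁ U₂ F₁ F₂), ?_, ?_, ?_⟩
  · intro U₁ U₂ hU₁ hU₂
    exact (Ega1.TensorRestrict.bijective_toT (P₁ f₁ f₂ F₁) (P₂ f₁ f₂ F₂)
      (VarietyB.PullSec.isQCoh_pullback _ _ h₁) (VarietyB.PullSec.isQCoh_pullback _ _ h₂) (isAffineOpen_box f₁ f₂ U₁ U₂ hU₁ hU₂)).comp
      (bijective_preMu f₁ f₂ U₁ U₂ F₁ F₂ h₁ h₂ hU₁ hU₂)
  · intro U₁ V₁ U₂ V₂ i₁ i₂ s t
    let m1 := fun U => secAMod A f₁ F₁ U
    let m2 := fun U => secAMod A f₂ F₂ U
    have hle : box f₁ f₂ V₁ V₂ ≤ box f₁ f₂ U₁ U₂ := inf_le_inf (fun _ hx => i₁ hx) (fun _ hx => i₂ hx)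
    refine Eq.trans ?_ (Ega1.TensorRestrict.toT_res (P₁ f₁ f₂ F₁) (P₂ f₁ f₂ F₂) hle
      (preMu f₁ f₂ U₁ U₂ F₁ F₂ (s ⊗ₜ t)))
    refine congrArg (Ega1.TensorRestrict.toT (P₁ f₁ f₂ F₁) (P₂ f₁ f₂ F₂) (box f₁ f₂ V₁ V₂)) ?_
    refine (preMu_tmul f₁ f₂ V₁ V₂ F₁ F₂ _ _).trans ?_
    refine Eq.trans ?_ (Ega1.TensorRestrict.resT_tmul (P₁ f₁ f₂ F₁) (P₂ f₁ f₂ F₂) hle _ _).symm
    rw [VarietyB.PullSec.sec_res (pullback.fst f₁ f₂) F₁ (U := U₁) (V := box f₁ f₂ U₁ U₂) inf_le_left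
        (U' := V₁) (V' := box f₁ f₂ V₁ V₂) inf_le_left i₁ hle,
      VarietyB.PullSec.sec_res (pullback.snd f₁ f₂) F₂ (U := U₂) (V := box f₁ f₂ U₁ U₂) inf_le_right
        (U' := V₂) (V' := box f₁ f₂ V₁ V₂) inf_le_right i₂ hle]
  · intro U₁ U₂ a z
    refine Eq.trans ?_ (Ega1.TensorRestrict.toT_smul (P₁ f₁ f₂ F₁) (P₂ f₁ f₂ F₂) (box f₁ f₂ U₁ U₂) _ _)
    exact congrArg _ (preMu_smul A f₁ f₂ F₁ F₂ U₁ U₂ a z)

end Box

section Two

variable {ι₁ ι₂ : Type} [LinearOrder ι₁] [Fintype ι₁] [LinearOrder ι₂] [Fintype ι₂]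
  {A : Type u} [CommRing A]
  {X₁ X₂ : Scheme.{u}} (f₁ : X₁ ⟶ Spec (CommRingCat.of A)) (f₂ : X₂ ⟶ Spec (CommRingCat.of A))
  (F₁ : X₁.Modules) (F₂ : X₂.Modules) (U₁ : ι₁ → X₁.Opens) (U₂ : ι₂ → X₂.Opens)

/-- The maps `μ` exist, with linearity. -/
theorem exists_mu_lin (hF₁ : Coh.IsQCoh F₁) (hF₂ : Coh.IsQCoh F₂)
    (h₁ : ∀ s : Finset ι₁, s.Nonempty → IsAffineOpen (s.inf U₁))
    (h₂ : ∀ s : Finset ι₂, s.Nonempty → IsAffineOpen (s.inf U₂)) :
    ∃ μ : ∀ s : Finset (ι₁ ⊕ₗ ι₂), (M1 f₁ F₁ U₁ (lft s) ⊗[A] M2 f₂ F₂ U₂ (rgt s)) →+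
        NN f₁ f₂ F₁ F₂ U₁ U₂ s,
      (∀ s, (lft s).Nonempty → (rgt s).Nonempty → Function.Bijective (μ s)) ∧
      (∀ s t (h : s ⊆ t) (z : M1 f₁ F₁ U₁ (lft s) ⊗[A] M2 f₂ F₂ U₂ (rgt s)),
        μ t (TensorProduct.map (r1 f₁ F₁ U₁ _ _ (lft_mono h)) (r2 f₂ F₂ U₂ _ _ (rgt_mono h)) z) =
          rr f₁ f₂ F₁ F₂ U₁ U₂ s t h (μ s z)) ∧
      ∀ s (a : A) (z : M1 f₁ F₁ U₁ (lft s) ⊗[A] M2 f₂ F₂ U₂ (rgt s)),
        μ s (a • z) = (Coh.smulAb (GG f₁ f₂ F₁ F₂) (Coh.toGlobal (pullback.fst f₁ f₂ ≫ f₁) a)).hom.app _ (μ s z) := by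
  obtain ⟨μ₀, hb, hr, hl⟩ := exists_boxIso_lin A f₁ f₂ F₁ F₂ hF₁ hF₂
  let i1 : ∀ U, Module A Γ(F₁, U) := fun U => secAMod A f₁ F₁ U
  let i2 : ∀ U, Module A Γ(F₂, U) := fun U => secAMod A f₂ F₂ U
  let res : ∀ s : Finset (ι₁ ⊕ₗ ι₂), Γ(GG f₁ f₂ F₁ F₂, box f₁ f₂ ((lft s).inf U₁) ((rgt s).inf U₂)) →+
      NN f₁ f₂ F₁ F₂ U₁ U₂ s := fun s =>
    ((GG f₁ f₂ F₁ F₂).presheaf.map (homOfLE (inf_le_box f₁ f₂ U₁ U₂ s)).op).hom
  refine ⟨fun s => (res s).comp (μ₀ ((lft s).inf U₁) ((rgt s).inf U₂)), ?_, ?_, ?_⟩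
  · intro s hs₁ hs₂
    suffices hbij : Function.Bijective (res s) from hbij.comp (hb _ _ (h₁ _ hs₁) (h₂ _ hs₂))
    let res' : NN f₁ f₂ F₁ F₂ U₁ U₂ s →+
        Γ(GG f₁ f₂ F₁ F₂, box f₁ f₂ ((lft s).inf U₁) ((rgt s).inf U₂)) :=
      ((GG f₁ f₂ F₁ F₂).presheaf.map (homOfLE (box_le_inf f₁ f₂ U₁ U₂ s)).op).hom
    constructor
    · refine Function.LeftInverse.injective (g := res') fun x => ?_
      exact (Fdesc.QCohStalk.map_map (GG f₁ f₂ F₁ F₂) _ _ x).trans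
        (Fdesc.QCohStalk.map_self (GG f₁ f₂ F₁ F₂) _ x)
    · refine Function.RightInverse.surjective (g := res') fun x => ?_
      exact (Fdesc.QCohStalk.map_map (GG f₁ f₂ F₁ F₂) _ _ x).trans
        (Fdesc.QCohStalk.map_self (GG f₁ f₂ F₁ F₂) _ x)
  · intro s t h z
    induction z using TensorProduct.induction_on with
    | zero => rw [map_zero, map_zero, map_zero, map_zero]
    | add x y hx hy => rw [map_add, map_add, map_add, map_add, hx, hy]
    | tmul x y =>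
      rw [TensorProduct.map_tmul]
      have h3 := hr ((lft s).inf U₁) ((lft t).inf U₁) ((rgt s).inf U₂) ((rgt t).inf U₂)
        (Finset.inf_mono (lft_mono h)) (Finset.inf_mono (rgt_mono h)) x y
      refine (congrArg (res t) h3).trans ?_
      refine (Fdesc.QCohStalk.map_map (GG f₁ f₂ F₁ F₂) _ _ _).trans ?_
      exact (Fdesc.QCohStalk.map_map (GG f₁ f₂ F₁ F₂) (inf_le_box f₁ f₂ U₁ U₂ s)
        (Finset.inf_mono h) (μ₀ ((lft s).inf U₁) ((rgt s).inf U₂) (x ⊗ₜ y))).symm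
  · intro s a z
    have h4 := hl ((lft s).inf U₁) ((rgt s).inf U₂) a z
    refine (congrArg (res s) h4).trans ?_
    refine (Fdesc.QCohStalk.map_smul' (GG f₁ f₂ F₁ F₂) (inf_le_box f₁ f₂ U₁ U₂ s) _ _).trans ?_
    have h5 : (pullback f₁ f₂).presheaf.map (homOfLE (inf_le_box f₁ f₂ U₁ U₂ s)).op
        (toSec A (pullback.fst f₁ f₂ ≫ f₁) (box f₁ f₂ ((lft s).inf U₁) ((rgt s).inf U₂)) a) =
        toSec A (pullback.fst f₁ f₂ ≫ f₁) (s.inf (UU f₁ f₂ U₁ U₂)) a := by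
      unfold toSec
      simp only [RingHom.comp_apply]
      rw [← CommRingCat.comp_apply, ← (pullback f₁ f₂).presheaf.map_comp]
      rfl
    rw [h5]
    rfl

end Two

variable {ι₁ ι₂ : Type} [LinearOrder ι₁] [Fintype ι₁] [LinearOrder ι₂] [Fintype ι₂]

theorem kunneth_of_cover_lin (A : Type u) [CommRing A] (X₁ X₂ : Scheme.{u})
    [X₁.Over (Spec (CommRingCat.of A))] [X₂.Over (Spec (CommRingCat.of A))]
    (F₁ : X₁.Modules) (hF₁ : Coh.IsQCoh F₁) (F₂ : X₂.Modules) (hF₂ : Coh.IsQCoh F₂)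
    (hfl : FlatMod.IsFlatOver (X₁ ↘ Spec (CommRingCat.of A)) F₁)
    (hH : ∀ p : ℕ, Module.Flat A (Coh.HH X₁ F₁ p))
    (U₁ : ι₁ → X₁.Opens) (U₂ : ι₂ → X₂.Opens) (hcov₁ : ⨆ i, U₁ i = ⊤) (hcov₂ : ⨆ i, U₂ i = ⊤)
    (h₁ : ∀ s : Finset ι₁, s.Nonempty → IsAffineOpen (s.inf U₁))
    (h₂ : ∀ s : Finset ι₂, s.Nonempty → IsAffineOpen (s.inf U₂)) (n : ℕ) :
    letI : (pullback (X₁ ↘ Spec (CommRingCat.of A)) (X₂ ↘ Spec (CommRingCat.of A))).Over (Spec (CommRingCat.of A)) :=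
      ⟨pullback.fst (X₁ ↘ Spec (CommRingCat.of A)) (X₂ ↘ Spec (CommRingCat.of A)) ≫ (X₁ ↘ Spec (CommRingCat.of A))⟩
    Nonempty (Coh.HH (pullback (X₁ ↘ Spec (CommRingCat.of A)) (X₂ ↘ Spec (CommRingCat.of A)))
        (GG (X₁ ↘ Spec (CommRingCat.of A)) (X₂ ↘ Spec (CommRingCat.of A)) F₁ F₂) n ≃ₗ[A]
      DirectSum (Finset.antidiagonal n) fun pq =>
        TensorProduct A (Coh.HH X₁ F₁ pq.1.1) (Coh.HH X₂ F₂ pq.1.2)) := by
  let iO : (pullback (X₁ ↘ Spec (CommRingCat.of A)) (X₂ ↘ Spec (CommRingCat.of A))).Over (Spec (CommRingCat.of A)) :=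
      ⟨pullback.fst (X₁ ↘ Spec (CommRingCat.of A)) (X₂ ↘ Spec (CommRingCat.of A)) ≫ (X₁ ↘ Spec (CommRingCat.of A))⟩
  let f₁ := X₁ ↘ Spec (CommRingCat.of A)
  let f₂ := X₂ ↘ Spec (CommRingCat.of A)
  let P : Scheme.{u} := pullback f₁ f₂
  let W : ι₁ ⊕ₗ ι₂ → P.Opens := UU f₁ f₂ U₁ U₂
  let G : P.Modules := GG f₁ f₂ F₁ F₂
  let BD : CombRes.Data P.toTopCat := biCech (X := P.toPresheafedSpace.carrier) (LL (ι₁ := ι₁) (ι₂ := ι₂)) W
  have hG : Coh.IsQCoh G := Ega1.TensorRestrict.isQCoh_tensorMod _ _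
    (VarietyB.PullSec.isQCoh_pullback _ _ hF₁) (VarietyB.PullSec.isQCoh_pullback _ _ hF₂)
  have hlg : BD.LocGood := by
    refine biCech_locGood (X := P.toPresheafedSpace.carrier) LL W ?_ ?_
    · intro x
      have hx : (pullback.fst f₁ f₂).base x ∈ (⨆ i, U₁ i : X₁.Opens) := by rw [hcov₁]; trivial
      obtain ⟨i, hi⟩ := Opens.mem_iSup.1 hx
      exact ⟨toLex (Sum.inl i), rfl, hi⟩
    · intro x
      have hx : (pullback.snd f₁ f₂).base x ∈ (⨆ i, U₂ i : X₂.Opens) := by rw [hcov₂]; trivial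
      obtain ⟨i, hi⟩ := Opens.mem_iSup.1 hx
      refine ⟨toLex (Sum.inr i), ?_, hi⟩
      intro h
      exact absurd (show (Sum.isLeft (Sum.inr i : ι₁ ⊕ ι₂)) = true from h) (by simp)
  obtain ⟨μ, hμ, hμr, hμl⟩ := exists_mu_lin f₁ f₂ F₁ F₂ U₁ U₂ hF₁ hF₂ h₁ h₂
  obtain ⟨tE, htE, hE, hEr⟩ := CombMod.exists_theta (phi A P) BD hlg hG (fun n b =>
    isAffineOpen_inf_UU f₁ f₂ U₁ U₂ h₁ h₂ b.1 (SL_iff.1 b.2.1).1 (SL_iff.1 b.2.1).2) n
  choose t ht ht0 using exists_theta_Co A F₁ U₁ hF₁ hcov₁ h₁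
  choose t2 ht2 ht20 using exists_theta_Co A F₂ U₂ hF₂ hcov₂ h₂
  refine kunneth_lin (C := Co (NE (ι := ι₁)) 1 (M1 f₁ F₁ U₁)) (D := Co (NE (ι := ι₂)) 1 (M1 f₂ F₂ U₂))
    (dl_dl A F₁ U₁) (dl_dl A F₂ U₂) (flat_Co A F₁ U₁ hF₁ hfl h₁)
    (fun p => flat_quot_bz _ (t p) (ht p) (ht0 p) (hH p)) (Fintype.card ι₁) ?_
    (E := fun n => CombMod.C (phi A P) BD G n) (fun n => (CombMod.d (phi A P) BD G n).toAddMonoidHom)
    (fun n => Psi μ n) ?_ (fun n x => Psi_eq_zero_iff μ hμ n x) (fun n => Psi_surjective μ hμ n)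
    ?_ n (HE := Coh.HH P G n)
    (tE.comp { toFun := fun z => ⟨z.1, z.2⟩, map_zero' := rfl, map_add' := fun _ _ => rfl }) ?_ ?_ ?_ t ht ht0 t2 ht2 ht20
  · intro p hp
    exact CechBC.subsingleton_C F₁ U₁ p hp
  · intro n r x
    funext b
    refine (Psi_apply μ n _ b).trans ?_
    refine Eq.trans ?_ (congrArg ((Coh.smulAb G (phi A P r)).hom.app _) (Psi_apply μ n x b).symm)
    refine Eq.trans ?_ (hμl b.1 r _)
    congr 1
    exact map_smul _ r _
  · intro n x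
    refine (Psi_dtot (r1 f₁ F₁ U₁) (r1 f₂ F₂ U₂) (rr f₁ f₂ F₁ F₂ U₁ U₂)
      (fun s h x => resSec_self A f₁ F₁ _ x) (fun s h x => resSec_self A f₂ F₂ _ x) μ hμr n x).trans ?_
    exact (biCech_δ_eq (X := P.toPresheafedSpace.carrier) W (Coh.toAb G).obj LL n _).symm
  · intro r z w hw
    refine Eq.trans ?_ (hEr r ⟨z.1, z.2⟩)
    exact congrArg tE (Subtype.ext hw)
  · intro y
    obtain ⟨z, hz⟩ := htE y
    exact ⟨⟨z.1, z.2⟩, hz⟩
  · intro z
    refine (hE ⟨z.1, z.2⟩).trans ?_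
    cases n <;> rfl

/-- everything is flat over a field -/
theorem flat_over_field {K : Type u} [Field K] {Y : Scheme.{u}} (q : Y ⟶ Spec (CommRingCat.of K))
    (M : Y.Modules) : FlatMod.IsFlatOver q M := by
  intro x
  unfold FlatMod.IsFlatOverAt
  let _ := FlatMod.moduleStalkOver q M x
  let _ : Algebra K ((Spec (CommRingCat.of K)).presheaf.stalk (q.base x)) :=
    StructureSheaf.stalkAlgebra (R := K) (q.base x)
  have : IsLocalization.AtPrime ((Spec (CommRingCat.of K)).presheaf.stalk (q.base x)) (q.base x).asIdeal :=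
    StructureSheaf.IsLocalization.to_stalk K (q.base x)
  let _ : Module K (M.presheaf.stalk x) :=
    Module.compHom _ (algebraMap K ((Spec (CommRingCat.of K)).presheaf.stalk (q.base x)))
  have : IsScalarTower K ((Spec (CommRingCat.of K)).presheaf.stalk (q.base x)) (M.presheaf.stalk x) :=
    IsScalarTower.of_algebraMap_smul fun _ _ => rfl
  rw [Module.flat_iff_of_isLocalization (R := K) ((Spec (CommRingCat.of K)).presheaf.stalk (q.base x))
    (q.base x).asIdeal.primeCompl]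
  infer_instance

/-- finite affine cover with affine finite intersections -/
theorem exists_cover_of_diagonal {X S : Scheme.{u}} [IsAffine S] (f : X ⟶ S) [CompactSpace X]
    [IsAffineHom (pullback.diagonal f)] :
    ∃ (n : ℕ) (U : Fin n → X.Opens), (⨆ i, U i = ⊤) ∧
      ∀ s : Finset (Fin n), s.Nonempty → IsAffineOpen (s.inf U) := by
  obtain ⟨I, hI, he⟩ := (isCompact_iff_finite_and_eq_biUnion_affineOpens (U := (⊤ : X.Opens))).mp
    isCompact_univ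
  have := hI.to_subtype
  obtain ⟨n, ⟨e⟩⟩ := Finite.exists_equiv_fin I
  refine ⟨n, fun i => (e.symm i).1.1, ?_, ?_⟩
  · rw [he, ← iSup_subtype'']
    exact e.symm.iSup_comp (g := fun i : I => (i.1.1 : X.Opens))
  · intro s hs
    have hinf : ∀ U V : X.Opens, IsAffineOpen U → IsAffineOpen V → IsAffineOpen (U ⊓ V) := fun U V hU hV =>
      isAffineHom_diagonal_iff.mp ‹IsAffineHom (pullback.diagonal f)› ⊤ (isAffineOpen_top _) U (by simp)
        V (by simp) hU hV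
    induction hs using Finset.Nonempty.cons_induction with
    | singleton a =>
      rw [Finset.inf_singleton]
      exact (e.symm a).1.2
    | cons a s ha hs ih =>
      rw [Finset.inf_cons]
      exact hinf _ _ (e.symm a).1.2 ih

/-- Families over the antidiagonal are families over `Fin (n + 1)`. -/
noncomputable def antiEquiv (k : Type u) [Field k] (n : ℕ) (M N : ℕ → Type u) [∀ p, AddCommGroup (M p)]
    [∀ p, AddCommGroup (N p)] [∀ p, Module k (M p)] [∀ p, Module k (N p)] :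
    (∀ pq : Finset.antidiagonal n, M pq.1.1 ⊗[k] N pq.1.2) ≃ₗ[k] (Π p : Fin (n + 1), M (p : ℕ) ⊗[k] N (n - (p : ℕ))) where
  toFun x p := x ⟨(p, n - p), Finset.mem_antidiagonal.2 (by omega)⟩
  map_add' x y := rfl
  map_smul' r x := rfl
  invFun y pq := (show n - pq.1.1 = pq.1.2 by have := Finset.mem_antidiagonal.1 pq.2; omega) ▸
    y ⟨pq.1.1, by have := Finset.mem_antidiagonal.1 pq.2; omega⟩
  left_inv x := by
    funext pq
    obtain ⟨⟨p, q⟩, hpq⟩ := pq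
    have h := Finset.mem_antidiagonal.1 hpq
    obtain rfl : n - p = q := by simp only at h; omega
    rfl
  right_inv y := rfl

end Geo

end K980.KunLin
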