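import Groth.Agent.HypSq.K980.DCover
import Groth.Agent.Fdesc.LocGenTensor
import Groth.Agent.VarietyB.ExactLoc
import Groth.Prelude.Def_ClSub2

/-!
# The cokernel of `O_Y ⟶ f_* O_X` for a double cover

`f : X ⟶ Y` with bases `1, y i` over a cover `U i` of `Y`:
* `shortExact`: `0 → O_Y → f_* O_X → Q → 0`;
* `isGen_q`: the image `q i` of `y i` generates `Q` over `U i`;
* `res_q`: the transition functions.
-/

set_option autoImplicit false
universe u

open CategoryTheory CategoryTheory.Limits AlgebraicGeometry Opposite TopologicalSpace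

namespace K980.CokerQ

open Groth.Agent Groth.Agent.Fdesc.LocGen K980.DCover

section

variable {X Y : Scheme.{u}} (f : X ⟶ Y)

theorem mono_of_app_injective {Z : Scheme.{u}} {M N : Z.Modules} (g : M ⟶ N)
    (h : ∀ U : Z.Opens, Function.Injective (g.app U)) : Mono g := by
  have h1 : Mono ((Scheme.Modules.toPresheaf Z).map g) := by
    rw [NatTrans.mono_iff_mono_app]
    intro U
    rw [AddCommGrpCat.mono_iff_injective]
    exact h U.unop
  exact (Scheme.Modules.toPresheaf Z).mono_of_mono_map h1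

/-- `f_* O_X` -/
noncomputable abbrev PO : Y.Modules := (Scheme.Modules.pushforward f).obj (Coh.structureModule X)

/-- The cokernel of `O_Y ⟶ f_* O_X`. -/
noncomputable def Q : Y.Modules := cokernel (ClSub.unitToPush f)

/-- The projection. -/
noncomputable def π : PO f ⟶ Q f := cokernel.π (ClSub.unitToPush f)

/-- Functions as sections of `f_* O_X`. -/
noncomputable def toPO {V : Y.Opens} : Γ(X, f ⁻¹ᵁ V) ≃+ Γ(PO f, V) := AddEquiv.refl _

theorem toPO_mul {V : Y.Opens} (a : Γ(Y, V)) (x : Γ(X, f ⁻¹ᵁ V)) : toPO f (fa f V a * x) = a • toPO f x := rfl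

theorem res_toPO {V W : Y.Opens} (h : W ≤ V) (x : Γ(X, f ⁻¹ᵁ V)) :
    res (PO f) h (toPO f x) = toPO f (ores (f.preimage_mono h) x) := rfl

theorem unitToPush_app {V : Y.Opens} (a : Γ(Y, V)) : (ClSub.unitToPush f).app V (ofFun a) = toPO f (fa f V a) := rfl

theorem π_fa {V : Y.Opens} (a : Γ(Y, V)) : (π f).app V (toPO f (fa f V a)) = 0 := by
  have h : ClSub.unitToPush f ≫ π f = 0 := cokernel.condition _
  have h1 := congr(($h).app V (ofFun a))
  exact h1

variable {ι : Type*} (U : ι → Y.Opens) (hU : ⨆ i, U i = ⊤) (y : ∀ i, Γ(X, f ⁻¹ᵁ U i))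
  (hy : ∀ i (V : Y.Opens) (hV : V ≤ U i), Function.Bijective (pr f (y i) V hV))

include hU hy in
theorem fa_injective (V : Y.Opens) : Function.Injective (fa f V) := by
  intro a b hab
  have hcov : V ≤ ⨆ i, V ⊓ U i := by rw [← inf_iSup_eq, hU, inf_top_eq]
  refine ores_ext (fun i => V ⊓ U i) (fun i => inf_le_left) hcov fun i => ?_
  have h1 : pr f (y i) (V ⊓ U i) inf_le_right (ores inf_le_left a, 0) =
      pr f (y i) (V ⊓ U i) inf_le_right (ores inf_le_left b, 0) := by
    simp only [pr, map_zero, zero_mul, add_zero]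
    rw [← ores_fa f (inf_le_left : V ⊓ U i ≤ V), ← ores_fa f (inf_le_left : V ⊓ U i ≤ V), hab]
  exact congrArg Prod.fst ((hy i _ _).1 h1)

include hU hy in
theorem mono_unitToPush : Mono (ClSub.unitToPush f) :=
  mono_of_app_injective _ fun V => fa_injective f U hU y hy V

/-- The sequence. -/
noncomputable abbrev seq : ShortComplex Y.Modules :=
  ShortComplex.mk (ClSub.unitToPush f) (π f) (cokernel.condition _)

include hU hy in
theorem shortExact : (seq f).ShortExact := by
  have := mono_unitToPush f U hU y hy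
  exact { exact := ShortComplex.exact_cokernel _, mono_f := this, epi_g := inferInstanceAs (Epi (cokernel.π _)) }

/-- The generator. -/
noncomputable def q (i : ι) : Γ(Q f, U i) := (π f).app (U i) (toPO f (y i))

theorem res_q (i : ι) {V : Y.Opens} (h : V ≤ U i) :
    res (Q f) h (q f U y i) = (π f).app V (toPO f (ores (f.preimage_mono h) (y i))) := by
  rw [q, ← app_res, res_toPO]

theorem π_pr (i : ι) {V : Y.Opens} (h : V ≤ U i) (p : Γ(Y, V) × Γ(Y, V)) :
    (π f).app V (toPO f (pr f (y i) V h p)) = p.2 • res (Q f) h (q f U y i) := by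
  rw [pr, map_add, map_add, π_fa, zero_add, toPO_mul, Scheme.Modules.Hom.app_smul, res_q]

include hU hy in
theorem isGen_q (i : ι) : IsGen (q f U y i) := by
  have hS := shortExact f U hU y hy
  have := hS.mono_f
  have := hS.epi_g
  apply IsGen.of_local
  · intro V hV a b hab
    have h1 : (π f).app V (toPO f (pr f (y i) V hV (0, a - b))) = 0 := by
      rw [π_pr, sub_smul, hab, sub_self]
    have key : ∀ x : V, ∃ (W : Y.Opens) (hW : W ≤ V), x.1 ∈ W ∧ ores hW a = ores hW b := by
      intro x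
      obtain ⟨W, hWV, hxW, c, hc⟩ := VarietyB.ExactLoc.exists_lift_of_exact (seq f) hS.exact _ h1 x.2
      obtain ⟨c, rfl⟩ := (ofFun (X := Y) (U := W)).surjective c
      have hc' : fa f W c = ores (f.preimage_mono hWV) (pr f (y i) V hV (0, a - b)) := hc
      rw [ores_pr f (y i) hV hWV] at hc'
      have h2 : pr f (y i) W (hWV.trans hV) (c, 0) =
          pr f (y i) W (hWV.trans hV) (ores hWV 0, ores hWV (a - b)) := by
        rw [← hc', pr, map_zero, zero_mul, add_zero]
      have h3 := congrArg Prod.snd ((hy i _ _).1 h2)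
      have h4 : (0 : Γ(Y, W)) = ores hWV (a - b) := h3
      rw [map_sub] at h4
      exact ⟨W, hWV, hxW, sub_eq_zero.1 h4.symm⟩
    choose W hW hxW hab' using key
    exact ores_ext W hW (fun x hx => Opens.mem_iSup.2 ⟨⟨x, hx⟩, hxW ⟨x, hx⟩⟩) hab'
  · intro V hV t x hx
    obtain ⟨W, hW, hxW, s, hs⟩ := VarietyB.ExactLoc.exists_lift_of_epi (π f) t hx
    obtain ⟨p, hp⟩ := (hy i W (hW.trans hV)).2 ((toPO f).symm s)
    refine ⟨W, hW, hW.trans hV, hxW, p.2, ?_⟩
    have h1 := π_pr f U y i (hW.trans hV) p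
    rw [hp, AddEquiv.apply_symm_apply] at h1
    rw [← h1]
    exact hs

/-- Transition functions. -/
theorem exists_trans (i j : ι) (V : Y.Opens) (hi : V ≤ U i) (hj : V ≤ U j) 
    (h : Function.Bijective (pr f (y j) V hj)) :
    ∃ a b : Γ(Y, V), ores (f.preimage_mono hi) (y i) = fa f V b + fa f V a * ores (f.preimage_mono hj) (y j) ∧
      res (Q f) hi (q f U y i) = a • res (Q f) hj (q f U y j) := by
  obtain ⟨p, hp⟩ := h.2 (ores (f.preimage_mono hi) (y i))
  refine ⟨p.2, p.1, hp.symm, ?_⟩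
  rw [res_q, ← hp, π_pr]

include hU hy in
theorem isInvertible_Q : PicF.IsInvertible (Q f) := by
  rw [isInvertible_iff]
  intro x
  have hx : x ∈ (⨆ i, U i) := by rw [hU]; trivial
  obtain ⟨i, hi⟩ := Opens.mem_iSup.1 hx
  exact ⟨U i, _, hi, isGen_q f U hU y hy i⟩

end

end K980.CokerQ
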