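import Groth.Agent.HypSq.K980.Double

/-!
# The sum of the diagonal and the graph of the involution

`mul_eq_one`: `O(1) ⊠ O(1)` pulled back to `C × C` is inverse to the product of the ideals of the diagonal and of
the graph of `σ`.
-/

set_option autoImplicit false
universe u

open CategoryTheory CategoryTheory.Limits AlgebraicGeometry Opposite TopologicalSpace

namespace K980.Kfour

open Groth.Agent Groth.Agent.Fdesc.LocGen Groth.Agent.Ega3B.KunnethSec Groth.Agent.CurvesC.ProjSpaceBasic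
open K980.P1Chart K980.DCover K980.Graph K980.CokerQ K980.Double
open Groth.Agent.Picfga.LineHom Groth.Agent.Dix.IdealModCartier Groth.Agent.Grpsch.PicGrp

/-- A section of an invertible module whose local coefficients generate `D` makes the module inverse to the ideal. -/
theorem nonempty_iso_of_section {X : Scheme.{u}} {M : X.Modules} (D : X.IdealSheafData) (t : Γ(M, ⊤))
    (h : ∀ x : X, ∃ (V : X.Opens) (e : Γ(M, V)) (a : Γ(X, V)), x ∈ V ∧ IsGen e ∧ res M le_top t = a • e ∧ GenOn D a) :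
    Nonempty (CohB1.tensorMod M (ClSub.idealMod D) ≅ Coh.structureModule X) := by
  choose W e a hxW he ha hgen using h
  have hW : (⨆ x, W x) = ⊤ := top_le_iff.1 fun x _ => Opens.mem_iSup.2 ⟨x, hxW x⟩
  have hs : ∀ x, ∃ s : Γ(ClSub.idealMod D, W x), val D s = a x := fun x => by
    refine exists_val_eq_of_local _ _ _ ?_
    intro y hy
    obtain ⟨V, hyV, hV⟩ := exists_affine_mem_le _ y hy
    refine ⟨V, hV, hyV, ?_⟩
    rw [(hgen x V hV).2]
    exact Ideal.mem_span_singleton_self _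
  choose s hs using hs
  have gs : ∀ x, IsGen (s x) := fun x => isGen_of_genOn ((hs x).symm ▸ hgen x)
  obtain ⟨φ, -⟩ := exists_iso (L := CohB1.tensorMod M (ClSub.idealMod D))
      (N := Coh.structureModule X) hW (e := fun x => tmul (e x) (s x))
      (fun x => (he x).tmul (gs x)) (n := fun x => one _)
      (trans_of_inf (fun x => (he x).tmul (gs x)) (by
        intro x y
        obtain ⟨c, hc⟩ := ((he y).res (inf_le_right : W x ⊓ W y ≤ _)).exists_eq
          (res M (inf_le_left : W x ⊓ W y ≤ _) (e x))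
        obtain ⟨d, hd, hd'⟩ := exists_factor (hgen x) (hgen y)
          (inf_le_left : W x ⊓ W y ≤ _) inf_le_right (hs x) (hs y)
        refine ⟨1, ?_, ?_⟩
        · rw [res_tmul, res_tmul, hc, hd, smul_tmul, tmul_smul, smul_smul]
          congr 1
          have h1 := congrArg (res M (inf_le_left : W x ⊓ W y ≤ _)) (ha x)
          have h2 := congrArg (res M (inf_le_right : W x ⊓ W y ≤ _)) (ha y)
          rw [res_res, res_smul] at h1 h2
          rw [h2, hc, smul_smul, hd'] at h1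
          have h3 := ((he y).res (inf_le_right : W x ⊓ W y ≤ _)).ext h1
          apply ((hgen y).res (inf_le_right : W x ⊓ W y ≤ _)).cancel
          rw [one_mul]
          conv_rhs => rw [h3]
          ring
        · rw [res_one, res_one, one_smul])) (fun x => isGen_one _)
  exact ⟨φ⟩

variable (k : Type u) [Field k]

/-- The coordinate as a global section of `O(1)`. -/
noncomputable def tsec (i : Fin 2) : Γ(Twist.twistProjSpace 1 k 1, ⊤) := CurvesC.Gen.sec (T 1 k i) ⊤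

theorem res_tsec (i : Fin 2) (U : (CohB1.ProjSpace 1 k).Opens) :
    res (Twist.twistProjSpace 1 k 1) le_top (tsec k i) = CurvesC.Gen.sec (T 1 k i) U :=
  CurvesC.Gen.map_sec (T 1 k i) le_top

theorem isGen_tsec (i : Fin 2) : IsGen (res (Twist.twistProjSpace 1 k 1) (le_top : Dp 1 k i ≤ ⊤) (tsec k i)) := by
  rw [res_tsec]
  exact isGen_T 1 k i

theorem res_tsec_eq (i j : Fin 2) : res (Twist.twistProjSpace 1 k 1) (le_top : Dp 1 k i ≤ ⊤) (tsec k j) =
    ratio 1 k i j • res (Twist.twistProjSpace 1 k 1) (le_top : Dp 1 k i ≤ ⊤) (tsec k i) := by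
  rw [res_tsec, res_tsec]
  exact (ratio_smul 1 k i j).symm

theorem ratio_mul_ratio (i j : Fin 2) :
    ores (inf_le_left : Dp 1 k i ⊓ Dp 1 k j ≤ _) (ratio 1 k i j) *
      ores (inf_le_right : Dp 1 k i ⊓ Dp 1 k j ≤ _) (ratio 1 k j i) = 1 := by
  have h1 := congrArg (res _ (inf_le_left : Dp 1 k i ⊓ Dp 1 k j ≤ _)) (res_tsec_eq k i j)
  have h2 := congrArg (res _ (inf_le_right : Dp 1 k i ⊓ Dp 1 k j ≤ _)) (res_tsec_eq k j i)
  rw [res_res, res_smul, res_res] at h1 h2
  rw [h2, smul_smul] at h1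
  have h3 := (isGen_tsec k j).res (inf_le_right : Dp 1 k i ⊓ Dp 1 k j ≤ _)
  rw [res_res] at h3
  apply h3.ext
  rw [one_smul]
  exact h1.symm

variable {C : Scheme.{u}} (κ : C ⟶ CohB1.ProjSpace 1 k)

/-- `L = κ^* O(1)`. -/
noncomputable abbrev LL : C.Modules := (Scheme.Modules.pullback κ).obj (Twist.twistProjSpace 1 k 1)

/-- The coordinate as a global section of `L = κ^* O(1)`. -/
noncomputable def lsec (i : Fin 2) : Γ((Scheme.Modules.pullback κ).obj (Twist.twistProjSpace 1 k 1), ⊤) :=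
  pullSec κ (tsec k i)

theorem isGen_lsec (i : Fin 2) : IsGen (res _ (le_top : Ci k κ i ≤ ⊤) (lsec k κ i)) := by
  have h := (isGen_tsec k i).pullSec κ
  rw [← res_pullSec] at h
  exact h

theorem res_lsec_eq (i j : Fin 2) : res _ (le_top : Ci k κ i ≤ ⊤) (lsec k κ j) =
    fa κ (Dp 1 k i) (ratio 1 k i j) • res _ (le_top : Ci k κ i ≤ ⊤) (lsec k κ i) := by
  have h := congrArg (pullSec κ) (res_tsec_eq k i j)
  rw [pullSec_smul, ← res_pullSec, ← res_pullSec] at h
  exact h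

variable [C.Over (Spec (CommRingCat.of k))]

local notation "XX" => pullback (C ↘ Spec (CommRingCat.of k)) (C ↘ Spec (CommRingCat.of k))
local notation "p₁" => pullback.fst (C ↘ Spec (CommRingCat.of k)) (C ↘ Spec (CommRingCat.of k))
local notation "p₂" => pullback.snd (C ↘ Spec (CommRingCat.of k)) (C ↘ Spec (CommRingCat.of k))

/-- `F = p_1^* L ⊗ p_2^* L`. -/
noncomputable abbrev F1 : (XX).Modules :=
  CohB1.tensorMod ((Scheme.Modules.pullback p₁).obj (LL k κ)) ((Scheme.Modules.pullback p₂).obj (LL k κ))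

/-- The global section `T_a ⊠ T_b`. -/
noncomputable def bs (a b : Fin 2) : Γ(F1 k κ, ⊤) := tmul (pullSec p₁ (lsec k κ a)) (pullSec p₂ (lsec k κ b))

theorem res_p1 (i j a : Fin 2) : res ((Scheme.Modules.pullback p₁).obj (LL k κ)) (le_top : W k κ i j ≤ ⊤) (pullSec p₁ (lsec k κ a)) =
    q1 k κ i j (fa κ (Dp 1 k i) (ratio 1 k i a)) •
      res ((Scheme.Modules.pullback p₁).obj (LL k κ)) (le_top : W k κ i j ≤ ⊤) (pullSec p₁ (lsec k κ i)) := by
  have h := congrArg (pullSec p₁) (res_lsec_eq k κ i a)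
  rw [pullSec_smul, ← res_pullSec, ← res_pullSec] at h
  have h2 := congrArg (res _ (inf_le_left : W k κ i j ≤ p₁ ⁻¹ᵁ Ci k κ i)) h
  rw [res_res, res_smul, res_res] at h2
  rw [q1, pl_eq_ores_fa]
  exact h2

theorem res_p2 (i j b : Fin 2) : res ((Scheme.Modules.pullback p₂).obj (LL k κ)) (le_top : W k κ i j ≤ ⊤) (pullSec p₂ (lsec k κ b)) =
    q2 k κ i j (fa κ (Dp 1 k j) (ratio 1 k j b)) •
      res ((Scheme.Modules.pullback p₂).obj (LL k κ)) (le_top : W k κ i j ≤ ⊤) (pullSec p₂ (lsec k κ j)) := by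
  have h := congrArg (pullSec p₂) (res_lsec_eq k κ j b)
  rw [pullSec_smul, ← res_pullSec, ← res_pullSec] at h
  have h2 := congrArg (res _ (inf_le_right : W k κ i j ≤ p₂ ⁻¹ᵁ Ci k κ j)) h
  rw [res_res, res_smul, res_res] at h2
  rw [q2, pl_eq_ores_fa]
  exact h2

/-- The generator over `W i j`. -/
noncomputable def eg (i j : Fin 2) : Γ(F1 k κ, W k κ i j) := res (F1 k κ) (le_top : W k κ i j ≤ ⊤) (bs k κ i j)

theorem isGen_eg (i j : Fin 2) : IsGen (eg k κ i j) := by
  rw [eg, bs, res_tmul]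
  have h1 := (isGen_lsec k κ i).pullSec p₁
  have h2 := (isGen_lsec k κ j).pullSec p₂
  rw [← res_pullSec] at h1 h2
  have h3 := h1.res (inf_le_left : W k κ i j ≤ p₁ ⁻¹ᵁ Ci k κ i)
  have h4 := h2.res (inf_le_right : W k κ i j ≤ p₂ ⁻¹ᵁ Ci k κ j)
  rw [res_res] at h3 h4
  exact h3.tmul h4

theorem res_bs (i j a b : Fin 2) : res (F1 k κ) (le_top : W k κ i j ≤ ⊤) (bs k κ a b) =
    (q1 k κ i j (fa κ (Dp 1 k i) (ratio 1 k i a)) * q2 k κ i j (fa κ (Dp 1 k j) (ratio 1 k j b))) • eg k κ i j := by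
  rw [eg, bs, bs, res_tmul, res_tmul, res_p1, res_p2, smul_tmul, tmul_smul, smul_smul]

/-- The section `T_0 ⊠ T_1 - T_1 ⊠ T_0`. -/
noncomputable def ds : Γ(F1 k κ, ⊤) := bs k κ 0 1 - bs k κ 1 0

/-- Its coefficient over `W i j`. -/
noncomputable def cf (i j : Fin 2) : Γ(XX, W k κ i j) :=
  q1 k κ i j (fa κ (Dp 1 k i) (ratio 1 k i 0)) * q2 k κ i j (fa κ (Dp 1 k j) (ratio 1 k j 1)) -
    q1 k κ i j (fa κ (Dp 1 k i) (ratio 1 k i 1)) * q2 k κ i j (fa κ (Dp 1 k j) (ratio 1 k j 0))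

theorem res_ds (i j : Fin 2) : res (F1 k κ) (le_top : W k κ i j ≤ ⊤) (ds k κ) = cf k κ i j • eg k κ i j := by
  rw [ds, map_sub, res_bs, res_bs, cf, sub_smul]

theorem tt_zero : tt k 0 = ratio 1 k 0 1 := rfl
theorem tt_one : tt k 1 = ratio 1 k 1 0 := rfl

theorem cf_zero : cf k κ 0 0 = - w k κ 0 := by
  rw [cf, w, tt_zero, ratio_self, map_one, map_one, map_one]
  ring

theorem cf_one : cf k κ 1 1 = w k κ 1 := by
  rw [cf, w, tt_one, ratio_self, map_one, map_one, map_one]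
  ring

theorem cf_zero_one : cf k κ 0 1 =
    1 - q1 k κ 0 1 (fa κ (Dp 1 k 0) (ratio 1 k 0 1)) * q2 k κ 0 1 (fa κ (Dp 1 k 1) (ratio 1 k 1 0)) := by
  rw [cf, ratio_self, ratio_self, map_one, map_one, map_one, map_one]
  ring

theorem cf_one_zero : cf k κ 1 0 =
    q1 k κ 1 0 (fa κ (Dp 1 k 1) (ratio 1 k 1 0)) * q2 k κ 1 0 (fa κ (Dp 1 k 0) (ratio 1 k 0 1)) - 1 := by
  rw [cf, ratio_self, ratio_self, map_one, map_one, map_one, map_one]
  ring

/-- The coefficient over `W i j`, `i ≠ j`, up to sign. -/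
theorem cf_of_ne {i j : Fin 2} (hij : i ≠ j) : ∃ e : Γ(XX, W k κ i j), IsUnit e ∧ cf k κ i j = e *
    (1 - q1 k κ i j (fa κ (Dp 1 k i) (ratio 1 k i j)) * q2 k κ i j (fa κ (Dp 1 k j) (ratio 1 k j i))) := by
  fin_cases i <;> fin_cases j
  · exact absurd rfl hij
  · exact ⟨1, isUnit_one, by rw [one_mul]; exact cf_zero_one k κ⟩
  · exact ⟨-1, isUnit_one.neg, by rw [neg_one_mul, neg_sub]; exact cf_one_zero k κ⟩
  · exact absurd rfl hij

/-- The coefficient over `W i i`, up to sign. -/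
theorem cf_self (i : Fin 2) : ∃ e : Γ(XX, W k κ i i), IsUnit e ∧ cf k κ i i = e * w k κ i := by
  fin_cases i
  · exact ⟨-1, isUnit_one.neg, by rw [neg_one_mul]; exact cf_zero k κ⟩
  · exact ⟨1, isUnit_one, by rw [one_mul]; exact cf_one k κ⟩

theorem gm_off {τ : C ⟶ C} (h : τ ≫ κ = κ) (hτ : τ ≫ (C ↘ Spec (CommRingCat.of k)) = C ↘ Spec (CommRingCat.of k))
    (i j : Fin 2) : gm k κ h hτ i j (inf_le_left : Ci k κ i ⊓ Ci k κ j ≤ _) inf_le_right
      (1 - q1 k κ i j (fa κ (Dp 1 k i) (ratio 1 k i j)) * q2 k κ i j (fa κ (Dp 1 k j) (ratio 1 k j i))) = 0 := by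
  rw [map_sub, map_one, map_mul, gm_q1, gm_q2, ts_fa]
  have h1 := congrArg (fa κ (Dp 1 k i ⊓ Dp 1 k j)) (ratio_mul_ratio k i j)
  rw [map_mul, ← ores_fa, ← ores_fa, map_one] at h1
  exact sub_eq_zero.2 h1.symm

variable (hκ : κ ≫ CohB1.ProjSpace.toSpec 1 k = (C ↘ Spec (CommRingCat.of k)))
  [IsIntegral C] [IsFinite κ] [IsSeparated (C ↘ Spec (CommRingCat.of k))]

omit [IsIntegral C] in
/-- Off the diagonal charts the graph is empty where the coefficient is invertible. -/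
theorem ideal_gr_off {τ : C ⟶ C} (h : τ ≫ κ = κ)
    (hτ : τ ≫ (C ↘ Spec (CommRingCat.of k)) = C ↘ Spec (CommRingCat.of k)) (i j : Fin 2) (V : (XX).affineOpens)
    (hV : V.1 ≤ W k κ i j) (hu : IsUnit (ores hV
      (1 - q1 k κ i j (fa κ (Dp 1 k i) (ratio 1 k i j)) * q2 k κ i j (fa κ (Dp 1 k j) (ratio 1 k j i))))) :
    (gr k τ hτ).ker.ideal V = ⊤ := by
  refine Ideal.eq_top_of_isUnit_mem _ ?_ hu
  have h0 : (1 - q1 k κ i j (fa κ (Dp 1 k i) (ratio 1 k i j)) * q2 k κ i j (fa κ (Dp 1 k j) (ratio 1 k j i))) ∈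
      (gr k τ hτ).ker.ideal ⟨W k κ i j, isAffineOpen_W k κ i j⟩ := by
    rw [Scheme.Hom.ker_apply, RingHom.mem_ker]
    have h1 := gm_off k κ h hτ i j
    rw [gm, pl_eq_ores_fa] at h1
    have hle : gr k τ hτ ⁻¹ᵁ W k κ i j ≤ Ci k κ i ⊓ Ci k κ j := by
      rw [gr_preimage k κ h hτ i j]
    have h2 := congrArg (ores hle) h1
    rw [ores_ores, ores_refl, map_zero] at h2
    exact h2
  have h1 := (gr k τ hτ).ker.map_ideal (U := V) (V := ⟨W k κ i j, isAffineOpen_W k κ i j⟩) hV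
  rw [← h1]
  exact Ideal.mem_map_of_mem _ h0

variable {σ : C ⟶ C} (h : σ ≫ κ = κ) (hσ : σ ≫ (C ↘ Spec (CommRingCat.of k)) = C ↘ Spec (CommRingCat.of k))
  (y : ∀ i : Fin 2, Γ(C, κ ⁻¹ᵁ Dp 1 k i))
  (hy : ∀ (i : Fin 2) (V : (CohB1.ProjSpace 1 k).Opens) (hV : V ≤ Dp 1 k i), Function.Bijective (pr κ (y i) V hV))
  (hne : ∀ i, ts k κ h i (y i) ≠ y i)
  (hD1 : BlowUp.IsEffCartierIdeal (gr k (𝟙 C) (Category.id_comp _)).ker)
  (hDσ : BlowUp.IsEffCartierIdeal (gr k σ hσ).ker)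

include hκ h hy hne in
/-- On a small open of `W i i` the product of the two graph ideals is generated by `w`. -/
theorem ideal_mul_eq (i : Fin 2) (V : (XX).affineOpens) (hV : V.1 ≤ W k κ i i) {d e : Γ(XX, V.1)}
    (hd : GenOn (gr k (𝟙 C) (Category.id_comp _)).ker d) (he : GenOn (gr k σ hσ).ker e) :
    Ideal.span {d * e} = Ideal.span {ores hV (w k κ i)} := by
  have I1 := ideal_gr k κ hκ (Category.id_comp κ) (Category.id_comp _) i (y i) (hy i _ le_rfl).2
  have Iσ := ideal_gr k κ hκ h hσ i (y i) (hy i _ le_rfl).2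
  have J1 := (gr k (𝟙 C) (Category.id_comp _)).ker.map_ideal (U := V)
    (V := ⟨W k κ i i, isAffineOpen_W k κ i i⟩) hV
  have Jσ := (gr k σ hσ).ker.map_ideal (U := V) (V := ⟨W k κ i i, isAffineOpen_W k κ i i⟩) hV
  rw [I1, Ideal.map_span, Set.image_pair] at J1
  rw [Iσ, Ideal.map_span, Set.image_pair] at Jσ
  have K1 := (hd V le_rfl).2
  have Kσ := (he V le_rfl).2
  rw [ores_refl] at K1 Kσ
  apply le_antisymm
  · have hprod : (Ideal.span {d} * Ideal.span {e} : Ideal Γ(XX, V.1)) ≤ Ideal.span {ores hV (w k κ i)} := by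
      rw [← K1, ← Kσ, ← J1, ← Jσ, Ideal.span_mul_span', Ideal.span_le]
      rintro _ ⟨a, ha, b, hb, rfl⟩
      rw [SetLike.mem_coe]
      rcases ha with rfl | rfl
      · exact Ideal.mul_mem_right _ _ (Ideal.mem_span_singleton_self _)
      · rcases hb with rfl | rfl
        · exact Ideal.mul_mem_left _ _ (Ideal.mem_span_singleton_self _)
        · have h1 := Ideal.mem_map_of_mem (ores hV) (dl_mul_dl_mem k κ i (y i) hκ (hy i _ le_rfl) h (hne i))
          rw [Ideal.map_span, Set.image_singleton, map_mul] at h1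
          exact h1
    rw [Ideal.span_singleton_mul_span_singleton] at hprod
    exact hprod
  · rw [Ideal.span_singleton_le_iff_mem]
    have m1 : ores hV (w k κ i) ∈ Ideal.span {d} := by
      rw [← K1, ← J1]; exact Ideal.subset_span (Or.inl rfl)
    have mσ : ores hV (w k κ i) ∈ (gr k σ hσ).ker.ideal V := by
      rw [← Jσ]; exact Ideal.subset_span (Or.inl rfl)
    obtain ⟨a, ha⟩ := Ideal.mem_span_singleton.1 m1
    have hc := isEffCartierIdeal_comap k κ hκ y hy h hσ (Category.id_comp κ) (Category.id_comp _)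
      (fun i => by rw [ts_id]; exact (hne i).symm)
    have hd' := hd.comap (gr k σ hσ) hc
    have ha0 : ((gr k σ hσ).app V.1 a : Γ(C, gr k σ hσ ⁻¹ᵁ V.1)) = 0 := by
      apply hd'.cancel
      rw [zero_mul]
      have h1 : (gr k σ hσ).app V.1 (ores hV (w k κ i)) = (0 : Γ(C, gr k σ hσ ⁻¹ᵁ V.1)) := by
        rw [Scheme.Hom.ker_apply, RingHom.mem_ker] at mσ
        exact mσ
      rw [ha, map_mul, mul_comm] at h1
      exact h1
    have ha1 : a ∈ Ideal.span {e} := by
      rw [← Kσ, Scheme.Hom.ker_apply, RingHom.mem_ker]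
      exact ha0
    obtain ⟨b, hb⟩ := Ideal.mem_span_singleton.1 ha1
    rw [ha, hb, ← mul_assoc]
    exact Ideal.mul_mem_right _ _ (Ideal.mem_span_singleton_self _)

include hκ h hy hne hD1 hDσ in
theorem exists_local (x : ↥(XX)) : ∃ (V : (XX).Opens) (e : Γ(F1 k κ, V)) (a : Γ(XX, V)), x ∈ V ∧ IsGen e ∧
    res (F1 k κ) le_top (ds k κ) = a • e ∧ GenOn ((gr k (𝟙 C) (Category.id_comp _)).ker * (gr k σ hσ).ker) a := by
  have hcov : ∀ z : C, ∃ i, z ∈ Ci k κ i := fun z => by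
    have hz : z ∈ (⨆ i, Ci k κ i) := by rw [iSup_Ci]; trivial
    exact Opens.mem_iSup.1 hz
  have key : ∀ i, x ∈ W k κ i i → ∃ (V : (XX).Opens) (e : Γ(F1 k κ, V)) (a : Γ(XX, V)), x ∈ V ∧ IsGen e ∧
    res (F1 k κ) le_top (ds k κ) = a • e ∧ GenOn ((gr k (𝟙 C) (Category.id_comp _)).ker * (gr k σ hσ).ker) a := by
    intro i hx
    obtain ⟨U, d, e, hxU, hd, he⟩ := exists_genOn₂ hD1 hDσ x
    obtain ⟨V, hxV, hV⟩ := exists_affine_mem_le (U.1 ⊓ W k κ i i) x ⟨hxU, hx⟩
    obtain ⟨ε, hε, hcf⟩ := cf_self k κ i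
    refine ⟨V.1, res _ (hV.trans inf_le_right) (eg k κ i i), ores (hV.trans inf_le_right) (cf k κ i i), hxV,
      (isGen_eg k κ i i).res _, ?_, ?_⟩
    · have h1 := congrArg (res _ (hV.trans inf_le_right)) (res_ds k κ i i)
      rw [res_res, res_smul] at h1
      exact h1
    · have hd' := hd.res (hV.trans inf_le_left)
      have he' := he.res (hV.trans inf_le_left)
      have h1 := ideal_mul_eq k κ hκ h hσ y hy hne i V (hV.trans inf_le_right) hd' he'
      have h2 := (hd'.mul he') V le_rfl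
      rw [ores_refl] at h2
      have h3 : Ideal.span {ores (hV.trans inf_le_right) (cf k κ i i)} =
          Ideal.span {ores (hV.trans inf_le_right) (w k κ i)} := by
        rw [hcf, map_mul]
        exact Ideal.span_singleton_mul_left_unit (hε.map _) _
      refine genOn_of_affine ?_ (by rw [h2.2, h1, h3])
      have h4 : ores (hV.trans inf_le_left) d * ores (hV.trans inf_le_left) e ∈
          Ideal.span {ores (hV.trans inf_le_right) (cf k κ i i)} := by
        rw [h3, ← h1]; exact Ideal.mem_span_singleton_self _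
      obtain ⟨c, hc⟩ := Ideal.mem_span_singleton.1 h4
      have h5 := h2.1
      rw [hc, mul_mem_nonZeroDivisors] at h5
      exact h5.1
  obtain ⟨i, hi⟩ := hcov (pullback.fst (C ↘ Spec (CommRingCat.of k)) (C ↘ Spec (CommRingCat.of k)) x)
  obtain ⟨j, hj⟩ := hcov (pullback.snd (C ↘ Spec (CommRingCat.of k)) (C ↘ Spec (CommRingCat.of k)) x)
  have hxW : x ∈ W k κ i j := ⟨hi, hj⟩
  by_cases hij : i = j
  · subst hij
    exact key i hxW
  by_cases hj' : pullback.fst (C ↘ Spec (CommRingCat.of k)) (C ↘ Spec (CommRingCat.of k)) x ∈ Ci k κ j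
  · exact key j ⟨hj', hj⟩
  -- now the coefficient is invertible at `x`
  set u : Γ(XX, W k κ i j) := 1 - q1 k κ i j (fa κ (Dp 1 k i) (ratio 1 k i j)) *
    q2 k κ i j (fa κ (Dp 1 k j) (ratio 1 k j i)) with hu
  have hxu : x ∈ (XX).basicOpen u := by
    rw [Scheme.mem_basicOpen _ _ x hxW, hu, map_sub, map_one, map_mul]
    rcases IsLocalRing.isUnit_or_isUnit_one_sub_self ((XX).presheaf.germ (W k κ i j) x hxW
      (q1 k κ i j (fa κ (Dp 1 k i) (ratio 1 k i j))) * (XX).presheaf.germ (W k κ i j) x hxW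
      (q2 k κ i j (fa κ (Dp 1 k j) (ratio 1 k j i)))) with h1 | h1
    · exfalso
      have h2 := isUnit_of_mul_isUnit_left h1
      rw [← Scheme.mem_basicOpen _ _ x hxW] at h2
      have h3 : (XX).basicOpen (q1 k κ i j (fa κ (Dp 1 k i) (ratio 1 k i j))) ≤ p₁ ⁻¹ᵁ κ ⁻¹ᵁ Dp 1 k j := by
        have e1 : (XX).basicOpen (q1 k κ i j (fa κ (Dp 1 k i) (ratio 1 k i j))) =
            W k κ i j ⊓ p₁ ⁻¹ᵁ C.basicOpen (fa κ (Dp 1 k i) (ratio 1 k i j)) :=
          Scheme.basicOpen_appLE _ _ _ _ _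
        have e2 : C.basicOpen (fa κ (Dp 1 k i) (ratio 1 k i j)) = κ ⁻¹ᵁ (CohB1.ProjSpace 1 k).basicOpen (ratio 1 k i j) :=
          (Scheme.preimage_basicOpen κ _).symm
        rw [e1, e2, basicOpen_ratio]
        exact inf_le_right.trans (Scheme.Hom.preimage_mono _ (Scheme.Hom.preimage_mono _ inf_le_right))
      exact hj' (h3 h2)
    · exact h1
  obtain ⟨V, hxV, hV⟩ := exists_affine_mem_le ((XX).basicOpen u) x hxu
  have hVW : V.1 ≤ W k κ i j := hV.trans ((XX).basicOpen_le u)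
  have huV : IsUnit (ores hVW u) := by
    have h1 : IsUnit (ores ((XX).basicOpen_le u) u) := RingedSpace.isUnit_res_basicOpen _ u
    have h2 := h1.map (ores hV)
    rwa [ores_ores] at h2
  obtain ⟨ε, hε, hcf⟩ := cf_of_ne k κ hij
  refine ⟨V.1, res _ hVW (eg k κ i j), ores hVW (cf k κ i j), hxV,
      (isGen_eg k κ i j).res _, ?_, ?_⟩
  · have h1 := congrArg (res _ hVW) (res_ds k κ i j)
    rw [res_res, res_smul] at h1
    exact h1
  · have h1 := ideal_gr_off k κ (Category.id_comp κ) (Category.id_comp _) i j V hVW huV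
    have h2 := ideal_gr_off k κ h hσ i j V hVW huV
    have hun : IsUnit (ores hVW (cf k κ i j)) := by
      rw [hcf, map_mul]; exact (hε.map _).mul huV
    refine genOn_of_affine hun.mem_nonZeroDivisors ?_
    simp only [Scheme.IdealSheafData.ideal_mul, Pi.mul_apply]
    rw [h1, h2, Ideal.mul_top, eq_comm, Ideal.span_singleton_eq_top]
    exact hun

include hκ h hy hne in
/-- The class of the sum of the two graphs. -/
theorem mul_eq_one (hI1 : PicF.IsInvertible (ClSub.idealMod (gr k (𝟙 C) (Category.id_comp _)).ker))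
    (hIσ : PicF.IsInvertible (ClSub.idealMod (gr k σ hσ).ker)) (hF : PicF.IsInvertible (F1 k κ)) :
    mk (F1 k κ) hF * (mk _ hI1 * mk _ hIσ) = 1 := by
  have hD1 := isEffCartierIdeal_of_isInvertible hI1
  have hDσ := isEffCartierIdeal_of_isInvertible hIσ
  obtain ⟨e⟩ := nonempty_iso_of_section _ (ds k κ) (exists_local k κ hκ h hσ y hy hne hD1 hDσ)
  obtain ⟨e2⟩ := idealMod_mul hD1 hDσ
  rw [mk_mul_mk, mk_mul_mk, mk_eq_one_iff]
  exact ⟨Ega2.Tens.mapTIso (Iso.refl _) e2 ≪≫ e⟩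

end K980.Kfour
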