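import Groth.Agent.HypSq.K980.BoxNum
import Groth.Agent.Sga4B.SmoothNormal
import Groth.Agent.Ega1.GenPts

/-!
# The class of `F_m`
-/

set_option autoImplicit false
universe u

open CategoryTheory CategoryTheory.Limits AlgebraicGeometry Opposite TopologicalSpace

namespace K980.Setup

open Groth.Agent Groth.Agent.Grpsch.PicGrp K980.PicNum K980.BoxNum K980.NumC
open Groth.Agent.Fdesc.LocGen (isInvertible_tensorMod isInvertible_pullback isInvertible_tensorPow)

/-- A connected smooth scheme over a field is integral. -/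
theorem isIntegral_of_connected {k : Type u} [Field k] {X : Scheme.{u}} (f : X ⟶ Spec (CommRingCat.of k)) [Smooth f]
    [ConnectedSpace X] : IsIntegral X := by
  have h1 : IsLocallyNoetherian X := LocallyOfFiniteType.isLocallyNoetherian f
  rw [Groth.Agent.Ega1.GenPts.isIntegral_iff]
  exact ⟨inferInstance, fun x => (Groth.Agent.Sga4B.SmoothNormal.isNormalScheme_of_smooth f x).1⟩

variable (k : Type u) [Field k] {C : Scheme.{u}} (κ : C ⟶ CohB1.ProjSpace 1 k)

theorem isInvertible_L : PicF.IsInvertible ((Scheme.Modules.pullback κ).obj (Twist.twistProjSpace 1 k 1)) :=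
  isInvertible_pullback κ (P1Num.isInvertible_tw k 1)

theorem mk_L : mk _ (isInvertible_L k κ) = ell k κ 1 := rfl

theorem isInvertible_Lpow (m : ℕ) : PicF.IsInvertible (CohB1.tensorPow ((Scheme.Modules.pullback κ).obj (Twist.twistProjSpace 1 k 1)) m) :=
  isInvertible_tensorPow (isInvertible_L k κ) m

theorem mk_Lpow (m : ℕ) : mk _ (isInvertible_Lpow k κ m) = ell k κ m := by
  rw [ell_eq_zpow, zpow_natCast, ← mk_L, ← mk_tensorPow]

variable [C.Over (Spec (CommRingCat.of k))]

theorem isInvertible_F (m : ℕ) : PicF.IsInvertible (CohB1.tensorMod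
    ((Scheme.Modules.pullback (pullback.fst (C ↘ Spec (CommRingCat.of k)) (C ↘ Spec (CommRingCat.of k)))).obj
      (CohB1.tensorPow ((Scheme.Modules.pullback κ).obj (Twist.twistProjSpace 1 k 1)) m))
    ((Scheme.Modules.pullback (pullback.snd (C ↘ Spec (CommRingCat.of k)) (C ↘ Spec (CommRingCat.of k)))).obj
      (CohB1.tensorPow ((Scheme.Modules.pullback κ).obj (Twist.twistProjSpace 1 k 1)) m))) :=
  isInvertible_tensorMod (isInvertible_pullback _ (isInvertible_Lpow k κ m))
    (isInvertible_pullback _ (isInvertible_Lpow k κ m))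

/-- The class of `F_m`. -/
noncomputable def fc (m : ℤ) : Pic (pullback (C ↘ Spec (CommRingCat.of k)) (C ↘ Spec (CommRingCat.of k))) :=
  bx k (ell k κ m) (ell k κ m)

theorem mk_F (m : ℕ) : mk _ (isInvertible_F k κ m) = fc k κ m := by
  rw [fc, ← mk_Lpow, bx_mk]

theorem isInvertible_FN (m r : ℕ) {N : (pullback (C ↘ Spec (CommRingCat.of k)) (C ↘ Spec (CommRingCat.of k))).Modules}
    (hN : PicF.IsInvertible N) : PicF.IsInvertible (CohB1.tensorMod (CohB1.tensorMod
    ((Scheme.Modules.pullback (pullback.fst (C ↘ Spec (CommRingCat.of k)) (C ↘ Spec (CommRingCat.of k)))).obj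
      (CohB1.tensorPow ((Scheme.Modules.pullback κ).obj (Twist.twistProjSpace 1 k 1)) m))
    ((Scheme.Modules.pullback (pullback.snd (C ↘ Spec (CommRingCat.of k)) (C ↘ Spec (CommRingCat.of k)))).obj
      (CohB1.tensorPow ((Scheme.Modules.pullback κ).obj (Twist.twistProjSpace 1 k 1)) m))) (CohB1.tensorPow N r)) :=
  isInvertible_tensorMod (isInvertible_F k κ m) (isInvertible_tensorPow hN r)

theorem mk_FN (m r : ℕ) {N : (pullback (C ↘ Spec (CommRingCat.of k)) (C ↘ Spec (CommRingCat.of k))).Modules}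
    (hN : PicF.IsInvertible N) : mk _ (isInvertible_FN k κ m r hN) = fc k κ m * mk N hN ^ r := by
  rw [← mk_F, ← mk_tensorPow hN r, mk_mul_mk]

variable [IsAlgClosed k]
  [IsProper (C ↘ Spec (CommRingCat.of k))] [IsIntegral C] (g : ℕ) (hgen : Curv2.genus k C = g)
  (hκ : κ ≫ CohB1.ProjSpace.toSpec 1 k = (C ↘ Spec (CommRingCat.of k)))
  [IsFinite κ]
  (y : ∀ i : Fin 2, Γ(C, κ ⁻¹ᵁ CurvesC.ProjSpaceBasic.Dp 1 k i))
  (hy : ∀ (i : Fin 2) (V : (CohB1.ProjSpace 1 k).Opens) (hV : V ≤ CurvesC.ProjSpaceBasic.Dp 1 k i),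
    Function.Bijective (DCover.pr κ (y i) V hV))

include hgen hκ hy in
theorem van_fc {m : ℤ} (hm : g ≤ m) {i : ℕ} (hi : 1 ≤ i) : Van (fc k κ m) i := by
  refine van_bx k _ _ i fun a b hab => ?_
  have h : ∀ c, 1 ≤ c → Van (ell k κ m) c := fun c hc => by
    rcases Nat.lt_or_ge c 2 with h | h
    · obtain rfl : c = 1 := by omega
      exact NumC.van_one k g hgen κ hκ y hy hm
    · exact NumC.van_ge_two k g hgen κ hκ y hy m h
  rcases Nat.eq_zero_or_pos a with h1 | h1
  · exact Or.inr (h b (by omega))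
  · exact Or.inl (h a h1)

end K980.Setup
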