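import Groth.Agent.HypSq.K980.NumC
import Groth.Agent.HypSq.K980.KunLin
import Groth.Agent.S7635
import Groth.Prelude.Def_FGA

/-!
# Cohomology of box products on `C × C`

`bx a b` is the class of `p_1^* a ⊗ p_2^* b`; `van_bx`, `hd_bx`, `chi_bx` the Künneth formula for it;
`intNum_mk`: the intersection number of two classes.
-/

set_option autoImplicit false
universe u

open CategoryTheory CategoryTheory.Limits AlgebraicGeometry Opposite TopologicalSpace

namespace K980.BoxNum

open Groth.Agent Groth.Agent.Grpsch.PicGrp K980.PicNum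
open Groth.Agent.Fdesc.LocGen (isInvertible_tensorMod isInvertible_pullback)

variable (k : Type u) [Field k] {C : Scheme.{u}} [C.Over (Spec (CommRingCat.of k))]

/-- The structure morphism of `C × C`. -/
noncomputable abbrev ov : (pullback (C ↘ Spec (CommRingCat.of k)) (C ↘ Spec (CommRingCat.of k))).Over
    (Spec (CommRingCat.of k)) :=
  ⟨pullback.fst (C ↘ Spec (CommRingCat.of k)) (C ↘ Spec (CommRingCat.of k)) ≫ (C ↘ Spec (CommRingCat.of k))⟩

attribute [local instance] ov

theorem isProper_ov [IsProper (C ↘ Spec (CommRingCat.of k))] :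
    IsProper (pullback (C ↘ Spec (CommRingCat.of k)) (C ↘ Spec (CommRingCat.of k)) ↘ Spec (CommRingCat.of k)) := by
  change IsProper (pullback.fst (C ↘ Spec (CommRingCat.of k)) (C ↘ Spec (CommRingCat.of k)) ≫ (C ↘ Spec (CommRingCat.of k)))
  infer_instance

/-- The class of `p_1^* a ⊗ p_2^* b`. -/
noncomputable def bx (a b : Pic C) : Pic (pullback (C ↘ Spec (CommRingCat.of k)) (C ↘ Spec (CommRingCat.of k))) :=
  pull (pullback.fst (C ↘ Spec (CommRingCat.of k)) (C ↘ Spec (CommRingCat.of k))) a *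
    pull (pullback.snd (C ↘ Spec (CommRingCat.of k)) (C ↘ Spec (CommRingCat.of k))) b

theorem bx_mk {L M : C.Modules} (hL : PicF.IsInvertible L) (hM : PicF.IsInvertible M) :
    bx k (mk L hL) (mk M hM) = mk
      (CohB1.tensorMod
        ((Scheme.Modules.pullback (pullback.fst (C ↘ Spec (CommRingCat.of k)) (C ↘ Spec (CommRingCat.of k)))).obj L)
        ((Scheme.Modules.pullback (pullback.snd (C ↘ Spec (CommRingCat.of k)) (C ↘ Spec (CommRingCat.of k)))).obj M))
      (isInvertible_tensorMod (isInvertible_pullback _ hL) (isInvertible_pullback _ hM)) := by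
  rw [bx, pull_mk, pull_mk, mk_mul_mk]

theorem bx_mul (a b c d : Pic C) : bx k (a * b) (c * d) = bx k a c * bx k b d := by
  rw [bx, bx, bx, map_mul, map_mul]
  exact mul_mul_mul_comm _ _ _ _

theorem bx_one : bx k (1 : Pic C) 1 = 1 := by
  rw [bx, map_one, map_one, one_mul]

theorem exists_kunneth [IsProper (C ↘ Spec (CommRingCat.of k))] (a b : Pic C) (n : ℕ) :
    Nonempty (Coh.HH (pullback (C ↘ Spec (CommRingCat.of k)) (C ↘ Spec (CommRingCat.of k))) (rep (bx k a b)) n ≃ₗ[k]
      DirectSum (Finset.antidiagonal n) fun pq => TensorProduct k (Coh.HH C (rep a) pq.1.1) (Coh.HH C (rep b) pq.1.2)) := by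
  have : CompactSpace C := (quasiCompact_iff_compactSpace (C ↘ Spec (CommRingCat.of k))).mp inferInstance
  obtain ⟨e⟩ := S7635.kunneth_aux k C C (rep a) (isCoh (rep_inv a)).1 (rep b) (isCoh (rep_inv b)).1 n
  have h : Nonempty (rep (bx k a b) ≅ CohB1.tensorMod
        ((Scheme.Modules.pullback (pullback.fst (C ↘ Spec (CommRingCat.of k)) (C ↘ Spec (CommRingCat.of k)))).obj (rep a))
        ((Scheme.Modules.pullback (pullback.snd (C ↘ Spec (CommRingCat.of k)) (C ↘ Spec (CommRingCat.of k)))).obj (rep b))) := by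
    rw [← mk_eq_iff (rep_inv _) (isInvertible_tensorMod (isInvertible_pullback _ (rep_inv a))
      (isInvertible_pullback _ (rep_inv b))), ← bx_mk k (rep_inv a) (rep_inv b), mk_rep, mk_rep, mk_rep]
  obtain ⟨e2⟩ := h
  exact ⟨(CurvesA.HHMap.equivOver k e2 n).trans e⟩

theorem subsingleton_tensor {V W : Type u} [AddCommGroup V] [AddCommGroup W] [Module k V] [Module k W]
    (h : Subsingleton V ∨ Subsingleton W) : Subsingleton (TensorProduct k V W) := by
  rcases h with h | h
  · have := TensorProduct.uniqueLeft (R := k) (M := V) (N := W); infer_instance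
  · have := TensorProduct.uniqueRight (R := k) (M := V) (N := W); infer_instance

theorem van_bx [IsProper (C ↘ Spec (CommRingCat.of k))] (a b : Pic C) (n : ℕ)
    (h : ∀ i j, i + j = n → Van a i ∨ Van b j) : Van (bx k a b) n := by
  obtain ⟨e⟩ := exists_kunneth k a b n
  have : Subsingleton (DirectSum (Finset.antidiagonal n) fun pq =>
      TensorProduct k (Coh.HH C (rep a) pq.1.1) (Coh.HH C (rep b) pq.1.2)) := by
    have h1 : ∀ pq : Finset.antidiagonal n, Subsingleton
        (TensorProduct k (Coh.HH C (rep a) pq.1.1) (Coh.HH C (rep b) pq.1.2)) := fun pq =>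
      subsingleton_tensor k (h _ _ (Finset.mem_antidiagonal.1 pq.2))
    infer_instance
  exact e.toEquiv.subsingleton

theorem hd_bx [IsProper (C ↘ Spec (CommRingCat.of k))] (a b : Pic C) (n : ℕ) :
    hd k (bx k a b) n = ∑ p ∈ Finset.antidiagonal n, hd k a p.1 * hd k b p.2 := by
  obtain ⟨e⟩ := exists_kunneth k a b n
  have h1 : ∀ i, Module.Finite k (Coh.HH C (rep a) i) := fun i => finite_hh k (isCoh (rep_inv _)) i
  have h2 : ∀ i, Module.Finite k (Coh.HH C (rep b) i) := fun i => finite_hh k (isCoh (rep_inv _)) i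
  rw [hd, e.finrank_eq, Module.finrank_directSum]
  refine Eq.trans ?_ (Finset.sum_coe_sort (Finset.antidiagonal n) (fun p => hd k a p.1 * hd k b p.2))
  exact Finset.sum_congr rfl fun (p : Finset.antidiagonal n) _ =>
    Module.finrank_tensorProduct (R := k) (S := k) (M := Coh.HH C (rep a) p.1.1) (M' := Coh.HH C (rep b) p.1.2)

theorem van_bx_ge [IsProper (C ↘ Spec (CommRingCat.of k))] (a b : Pic C) (ha : ∀ i, 2 ≤ i → Van a i)
    (hb : ∀ i, 2 ≤ i → Van b i) (n : ℕ) (hn : 3 ≤ n) : Van (bx k a b) n :=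
  van_bx k a b n fun i j hij => by
    rcases Nat.lt_or_ge i 2 with h | h
    · exact Or.inr (hb j (by omega))
    · exact Or.inl (ha i h)

theorem chi_bx [IsProper (C ↘ Spec (CommRingCat.of k))] (a b : Pic C) (ha : ∀ i, 2 ≤ i → Van a i)
    (hb : ∀ i, 2 ≤ i → Van b i) : chi k (bx k a b) = chi k a * chi k b := by
  rw [NumC.euler_eq_range k _ 3 (van_bx_ge k a b ha hb), NumC.euler_eq_range k a 2 ha, NumC.euler_eq_range k b 2 hb]
  simp only [Finset.sum_range_succ, Finset.range_zero, Finset.sum_empty, hd_bx]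
  have h0 : Finset.antidiagonal 0 = {((0 : ℕ), (0 : ℕ))} := rfl
  have h1 : Finset.antidiagonal 1 = {((0 : ℕ), (1 : ℕ)), (1, 0)} := rfl
  have h2 : Finset.antidiagonal 2 = {((0 : ℕ), (2 : ℕ)), (1, 1), (2, 0)} := rfl
  have a2 : hd k a 2 = 0 := by
    have : Subsingleton (Coh.HH C (rep a) 2) := ha 2 le_rfl
    exact Module.finrank_zero_of_subsingleton
  have b2 : hd k b 2 = 0 := by
    have : Subsingleton (Coh.HH C (rep b) 2) := hb 2 le_rfl
    exact Module.finrank_zero_of_subsingleton
  rw [h0, h1, h2, Finset.sum_singleton, Finset.sum_pair (by decide), Finset.sum_insert (by decide),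
    Finset.sum_pair (by decide), a2, b2]
  push_cast
  ring

section Int

variable {Y : Scheme.{u}} [Y.Over (Spec (CommRingCat.of k))]

theorem eulerCharLE_mk {L : Y.Modules} (hL : PicF.IsInvertible L) {M : Y.Modules} (e : Nonempty (M ≅ L))
    (h : ∀ i, 3 ≤ i → Van (mk L hL) i) : FGA.eulerCharLE k Y M 2 = chi k (mk L hL) := by
  rw [NumC.euler_eq_range k _ 3 h]
  unfold FGA.eulerCharLE
  obtain ⟨e⟩ := e
  refine Finset.sum_congr rfl fun i _ => ?_
  rw [hd_mk, CurvesC.DegIso.finrank_congr k e]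

/-- The intersection number of two classes on a surface. -/
theorem intNum_mk {L M : Y.Modules} (hL : PicF.IsInvertible L) (hM : PicF.IsInvertible M)
    (h1 : ∀ i, 3 ≤ i → Van (1 : Pic Y) i) (h2 : ∀ i, 3 ≤ i → Van (mk L hL) i)
    (h3 : ∀ i, 3 ≤ i → Van (mk M hM) i) (h4 : ∀ i, 3 ≤ i → Van (mk L hL * mk M hM) i) :
    FGA.intNum k Y 2 ![L, M] (Coh.structureModule Y) =
      chi k (1 : Pic Y) - chi k (mk L hL) - chi k (mk M hM) + chi k (mk L hL * mk M hM) := by
  have hU : (Finset.univ : Finset (Finset (Fin 2))) = {∅, {0}, {1}, {0, 1}} := by decide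
  have e0 : Nonempty (CohB1.tensorMod (Coh.structureModule Y) (Coh.structureModule Y) ≅ Coh.structureModule Y) :=
    ⟨Ega2.Tens.runit _⟩
  have e1 : ∀ N : Y.Modules, Nonempty (CohB1.tensorMod (CohB1.tensorMod N (Coh.structureModule Y))
      (Coh.structureModule Y) ≅ N) := fun N => ⟨Ega2.Tens.runit _ ≪≫ Ega2.Tens.runit _⟩
  have e2 : Nonempty (CohB1.tensorMod (CohB1.tensorMod L (CohB1.tensorMod M (Coh.structureModule Y)))
      (Coh.structureModule Y) ≅ CohB1.tensorMod L M) :=
    ⟨Ega2.Tens.runit _ ≪≫ Ega2.Tens.mapTIso (Iso.refl _) (Ega2.Tens.runit _)⟩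
  have s0 : (∅ : Finset (Fin 2)).sort (· ≤ ·) = [] := by simp
  have s1 : ({0} : Finset (Fin 2)).sort (· ≤ ·) = [0] := by simp
  have s2 : ({1} : Finset (Fin 2)).sort (· ≤ ·) = [1] := by simp
  have s3 : ({0, 1} : Finset (Fin 2)).sort (· ≤ ·) = [0, 1] := by
    rw [Finset.sort_insert _ (by simp) (by simp), Finset.sort_singleton]
  unfold FGA.intNum
  rw [hU, Finset.sum_insert (by decide), Finset.sum_insert (by decide), Finset.sum_insert (by decide),
    Finset.sum_singleton, s0, s1, s2, s3]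
  simp only [List.map_cons, List.map_nil, FGA.tensorList, Matrix.cons_val_zero, Matrix.cons_val_one]
  rw [one_def] at h1 ⊢
  rw [mk_mul_mk] at h4 ⊢
  rw [eulerCharLE_mk k _ e0 h1, eulerCharLE_mk k hL (e1 L) h2, eulerCharLE_mk k hM (e1 M) h3,
    eulerCharLE_mk k _ e2 h4]
  simp only [Finset.card_empty, Finset.card_singleton, pow_zero, pow_one]
  have hc : ({0, 1} : Finset (Fin 2)).card = 2 := by decide
  rw [hc]
  ring

end Int

end K980.BoxNum
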