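import Groth.Agent.HypSq.K980.P1Chart
import Mathlib.AlgebraicGeometry.Morphisms.FlatRank
import Mathlib.RingTheory.Flat.TorsionFree
import Mathlib.LinearAlgebra.FreeModule.PID
import Mathlib.RingTheory.Flat.FaithfullyFlat.Algebra

/-!
# Double covers, algebraically

* `exists_y`: a finite flat algebra of rank two over a principal ideal domain has a basis `1, y`.
* `pr_bijective`: such a basis over an affine open is a basis over every smaller open.
* `exists_basis`: for `κ : C ⟶ P^1` finite flat of rank two, bases `1, y i` over the standard charts.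
-/

set_option autoImplicit false
universe u

open CategoryTheory CategoryTheory.Limits AlgebraicGeometry Opposite TopologicalSpace

namespace K980.DCover

open Groth.Agent Groth.Agent.CurvesC.ProjSpaceBasic Groth.Agent.Fdesc.LocGen

theorem exists_y {R A : Type*} [CommRing R] [IsDomain R] [IsPrincipalIdealRing R] [CommRing A] [Algebra R A]
    [Module.Finite R A] [Module.Flat R A] (h : Module.finrank R A = 2) :
    ∃ y : A, Function.Bijective (fun p : R × R => algebraMap R A p.1 + algebraMap R A p.2 * y) := by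
  have htf : Module.IsTorsionFree R A := inferInstance
  have hfree : Module.Free R A := inferInstance
  have hnt : Nontrivial A := Module.nontrivial_of_finrank_pos (R := R) (by omega)
  have hff : Module.FaithfullyFlat R A := inferInstance
  have hinj : Function.Injective (algebraMap R A) := FaithfulSMul.algebraMap_injective R A
  let N : Submodule R A := LinearMap.range (Algebra.linearMap R A)
  have hQ : Module.IsTorsionFree R (A ⧸ N) := by
    refine Module.IsTorsionFree.mk fun r hr => ?_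
    intro a b hab
    obtain ⟨a, rfl⟩ := Submodule.Quotient.mk_surjective N a
    obtain ⟨b, rfl⟩ := Submodule.Quotient.mk_surjective N b
    have hab' : Submodule.Quotient.mk (p := N) (r • a) = Submodule.Quotient.mk (r • b) := hab
    rw [Submodule.Quotient.eq] at hab' ⊢
    obtain ⟨s, hs⟩ := hab'
    have hr0 : r ≠ 0 := hr.ne_zero
    have hs' : algebraMap R A s = r • (a - b) := by rw [smul_sub]; exact hs
    -- s ∈ rA ∩ R = rR
    have hmem : s ∈ (Ideal.map (algebraMap R A) (Ideal.span {r})).comap (algebraMap R A) := by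
      rw [Ideal.mem_comap, hs', Algebra.smul_def]
      exact Ideal.mul_mem_right _ _ (Ideal.mem_map_of_mem _ (Ideal.mem_span_singleton_self r))
    rw [Ideal.comap_map_eq_self_of_faithfullyFlat, Ideal.mem_span_singleton] at hmem
    obtain ⟨s', rfl⟩ := hmem
    refine ⟨s', ?_⟩
    change algebraMap R A s' = a - b
    rw [map_mul, ← Algebra.smul_def] at hs'
    exact (smul_right_injective A hr0) hs'
  have hQf : Module.Free R (A ⧸ N) := inferInstance
  have hN : Module.finrank R N = 1 := by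
    have e : R ≃ₗ[R] N := LinearEquiv.ofInjective (Algebra.linearMap R A) hinj
    rw [← e.finrank_eq, Module.finrank_self]
  have hrk : Module.finrank R (A ⧸ N) = 1 := by
    have := Submodule.finrank_quotient_add_finrank N
    omega
  let b := (Module.finBasisOfFinrankEq R (A ⧸ N) hrk)
  obtain ⟨y, hy⟩ := Submodule.Quotient.mk_surjective N (b 0)
  refine ⟨y, ?_, ?_⟩
  · intro p q hpq
    have h1 : algebraMap R A (p.1 - q.1) = algebraMap R A (q.2 - p.2) * y := by
      simp only [map_sub, sub_mul]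
      have : algebraMap R A p.1 + algebraMap R A p.2 * y = algebraMap R A q.1 + algebraMap R A q.2 * y := hpq
      linear_combination this
    have h2 : (q.2 - p.2) • b 0 = 0 := by
      rw [← hy]
      change Submodule.Quotient.mk (p := N) ((q.2 - p.2) • y) = 0
      rw [Submodule.Quotient.mk_eq_zero, Algebra.smul_def, ← h1]
      exact ⟨_, rfl⟩
    have h3 : q.2 - p.2 = 0 := by
      have := congrArg (fun z => b.repr z 0) h2
      simpa using this
    have h4 : p.1 - q.1 = 0 := by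
      apply hinj
      rw [h1, h3, map_zero, zero_mul]
    exact Prod.ext (sub_eq_zero.1 h4) (sub_eq_zero.1 h3).symm
  · intro a
    have h1 : (b.repr (Submodule.Quotient.mk a) 0) • b 0 = Submodule.Quotient.mk a := by
      conv_rhs => rw [← b.sum_repr (Submodule.Quotient.mk a)]
      simp
    rw [← hy] at h1
    have h2 : Submodule.Quotient.mk (p := N) (a - (b.repr (Submodule.Quotient.mk a) 0) • y) = 0 := by
      rw [Submodule.Quotient.mk_sub, sub_eq_zero]
      exact h1.symm
    rw [Submodule.Quotient.mk_eq_zero] at h2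
    obtain ⟨s, hs⟩ := h2
    refine ⟨(s, b.repr (Submodule.Quotient.mk a) 0), ?_⟩
    have hs' : algebraMap R A s = a - (b.repr (Submodule.Quotient.mk a) 0) • y := hs
    change algebraMap R A s + algebraMap R A _ * y = a
    rw [hs', Algebra.smul_def]
    ring

section Pair

variable {X Y : Scheme.{u}} (f : X ⟶ Y)

/-- The ring homomorphism on sections. -/
noncomputable def fa (V : Y.Opens) : Γ(Y, V) →+* Γ(X, f ⁻¹ᵁ V) := (f.app V).hom

theorem ores_fa {V W : Y.Opens} (h : W ≤ V) (a : Γ(Y, V)) :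
    ores (f.preimage_mono h) (fa f V a) = fa f W (ores h a) :=
  congr($(f.naturality (homOfLE h).op) a).symm

/-- The map `(a, b) ↦ a + b y`. -/
noncomputable def pr {U : Y.Opens} (y : Γ(X, f ⁻¹ᵁ U)) (V : Y.Opens) (h : V ≤ U) (p : Γ(Y, V) × Γ(Y, V)) :
    Γ(X, f ⁻¹ᵁ V) := fa f V p.1 + fa f V p.2 * ores (f.preimage_mono h) y

theorem ores_pr {U : Y.Opens} (y : Γ(X, f ⁻¹ᵁ U)) {V W : Y.Opens} (h : V ≤ U) (h' : W ≤ V) (p : Γ(Y, V) × Γ(Y, V)) :
    ores (f.preimage_mono h') (pr f y V h p) = pr f y W (h'.trans h) (ores h' p.1, ores h' p.2) := by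
  rw [pr, pr, map_add, map_mul, ores_fa, ores_fa, ores_ores]

theorem pr_bijective_basicOpen {U : Y.Opens} (hU : IsAffineOpen U) (hU' : IsAffineOpen (f ⁻¹ᵁ U)) (y : Γ(X, f ⁻¹ᵁ U))
    (h : Function.Bijective (pr f y U le_rfl)) (g : Γ(Y, U)) :
    Function.Bijective (pr f y (Y.basicOpen g) (Y.basicOpen_le g)) := by
  have hle := Y.basicOpen_le g
  have e1 : f ⁻¹ᵁ Y.basicOpen g = X.basicOpen (fa f U g) := Scheme.preimage_basicOpen f g
  let i1 : Algebra Γ(Y, U) Γ(Y, Y.basicOpen g) := (ores hle).toAlgebra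
  let i2 : Algebra Γ(X, f ⁻¹ᵁ U) Γ(X, f ⁻¹ᵁ Y.basicOpen g) := (ores (f.preimage_mono hle)).toAlgebra
  have l1 : IsLocalization.Away g Γ(Y, Y.basicOpen g) := hU.isLocalization_of_eq_basicOpen g (homOfLE hle) rfl
  have l2 : IsLocalization.Away (fa f U g) Γ(X, f ⁻¹ᵁ Y.basicOpen g) :=
    hU'.isLocalization_of_eq_basicOpen (fa f U g) (homOfLE (f.preimage_mono hle)) e1
  have hu : IsUnit (ores (f.preimage_mono hle) (fa f U g)) := IsLocalization.Away.algebraMap_isUnit (fa f U g)
  have hv : IsUnit (ores hle g) := IsLocalization.Away.algebraMap_isUnit g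
  constructor
  · -- injectivity: reduce to kernels
    have key : ∀ p : Γ(Y, Y.basicOpen g) × Γ(Y, Y.basicOpen g), pr f y _ hle p = 0 → p = 0 := by
      intro p hp
      obtain ⟨⟨r, ⟨_, n, rfl⟩⟩, hr⟩ := IsLocalization.surj (Submonoid.powers g) p.1
      obtain ⟨⟨s, ⟨_, m, rfl⟩⟩, hs⟩ := IsLocalization.surj (Submonoid.powers g) p.2
      have hr' : p.1 * ores hle g ^ n = ores hle r := by rw [← map_pow]; exact hr
      have hs' : p.2 * ores hle g ^ m = ores hle s := by rw [← map_pow]; exact hs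
      -- common denominators
      have h1 : ores (f.preimage_mono hle) (pr f y U le_rfl (g ^ m * r, g ^ n * s)) = 0 := by
        rw [ores_pr f y le_rfl hle]
        simp only [map_mul, map_pow, ← hr', ← hs']
        have h2 : pr f y _ hle (ores hle g ^ m * (p.1 * ores hle g ^ n), ores hle g ^ n * (p.2 * ores hle g ^ m)) =
            (fa f _ (ores hle g)) ^ (m + n) * pr f y _ hle p := by
          simp only [pr, map_mul, map_pow]
          ring
        rw [h2, hp, mul_zero]
      obtain ⟨⟨_, l, rfl⟩, hl⟩ := (IsLocalization.map_eq_zero_iff (Submonoid.powers (fa f U g))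
        Γ(X, f ⁻¹ᵁ Y.basicOpen g) _).1 h1
      have h3 : pr f y U le_rfl (g ^ l * (g ^ m * r), g ^ l * (g ^ n * s)) = pr f y U le_rfl (0, 0) := by
        have h4 : pr f y U le_rfl (g ^ l * (g ^ m * r), g ^ l * (g ^ n * s)) =
            fa f U g ^ l * pr f y U le_rfl (g ^ m * r, g ^ n * s) := by
          simp only [pr, map_mul, map_pow]
          ring
        have h5 : pr f y U le_rfl (0, 0) = 0 := by simp [pr]
        rw [h4, h5]
        exact hl
      have h6 := h.1 h3
      have h7 := congrArg (ores hle) (congrArg Prod.fst h6)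
      have h8 := congrArg (ores hle) (congrArg Prod.snd h6)
      simp only [map_mul, map_pow, map_zero, ← hr', ← hs'] at h7 h8
      have h9 : p.1 = 0 := by
        have : p.1 * ores hle g ^ (l + m + n) = 0 := by rw [← h7]; ring
        exact ((hv.pow _).mul_left_eq_zero).1 this
      have h10 : p.2 = 0 := by
        have : p.2 * ores hle g ^ (l + m + n) = 0 := by rw [← h8]; ring
        exact ((hv.pow _).mul_left_eq_zero).1 this
      exact Prod.ext h9 h10
    intro p q hpq
    have h1 := key (p - q) (by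
      have : pr f y _ hle (p - q) = pr f y _ hle p - pr f y _ hle q := by
        simp only [pr, Prod.fst_sub, Prod.snd_sub, map_sub]; ring
      rw [this, hpq, sub_self])
    exact sub_eq_zero.1 h1
  · intro a
    obtain ⟨⟨b, ⟨_, n, rfl⟩⟩, hb⟩ := IsLocalization.surj (Submonoid.powers (fa f U g)) a
    have hb' : a * ores (f.preimage_mono hle) (fa f U g) ^ n = ores (f.preimage_mono hle) b := by
      rw [← map_pow]; exact hb
    obtain ⟨p, rfl⟩ := h.2 b
    obtain ⟨v, hv'⟩ := hv
    refine ⟨(((v⁻¹ : Γ(Y, Y.basicOpen g)ˣ) : Γ(Y, Y.basicOpen g)) ^ n * ores hle p.1,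
      ((v⁻¹ : Γ(Y, Y.basicOpen g)ˣ) : Γ(Y, Y.basicOpen g)) ^ n * ores hle p.2), ?_⟩
    apply (hu.pow n).mul_right_cancel
    rw [hb', ores_pr f y le_rfl hle, ores_fa f hle, ← hv']
    have hvv : (v : Γ(Y, Y.basicOpen g)) * ((v⁻¹ : Γ(Y, Y.basicOpen g)ˣ) : Γ(Y, Y.basicOpen g)) = 1 := v.mul_inv
    have hvn : fa f (Y.basicOpen g) (v : Γ(Y, Y.basicOpen g)) ^ n *
        fa f (Y.basicOpen g) ((v⁻¹ : Γ(Y, Y.basicOpen g)ˣ) : Γ(Y, Y.basicOpen g)) ^ n = 1 := by
      rw [← mul_pow, ← map_mul, hvv, map_one, one_pow]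
    simp only [pr, map_mul, map_pow]
    linear_combination (fa f (Y.basicOpen g) (ores hle p.1) + fa f (Y.basicOpen g) (ores hle p.2) *
      ores (f.preimage_mono hle) y) * hvn

theorem pr_bijective {U : Y.Opens} (hU : IsAffineOpen U) (hU' : IsAffineOpen (f ⁻¹ᵁ U)) (y : Γ(X, f ⁻¹ᵁ U))
    (h : Function.Bijective (pr f y U le_rfl)) (V : Y.Opens) (hV : V ≤ U) :
    Function.Bijective (pr f y V hV) := by
  have hloc : ∀ (V : Y.Opens) (hV : V ≤ U) (x : V), ∃ (W : Y.Opens) (hW : W ≤ V), x.1 ∈ W ∧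
      Function.Bijective (pr f y W (hW.trans hV)) := by
    intro V hV x
    obtain ⟨g, hg, hx⟩ := hU.exists_basicOpen_le ⟨x.1, x.2⟩ (hV x.2)
    exact ⟨Y.basicOpen g, hg, hx, pr_bijective_basicOpen f hU hU' y h g⟩
  have hinj : ∀ (V : Y.Opens) (hV : V ≤ U), Function.Injective (pr f y V hV) := by
    intro V hV p q hpq
    choose W hW hxW hb using hloc V hV
    have hcov : V ≤ ⨆ x, W x := fun x hx => Opens.mem_iSup.2 ⟨⟨x, hx⟩, hxW ⟨x, hx⟩⟩
    have h1 : ∀ x, (ores (hW x) p.1, ores (hW x) p.2) = (ores (hW x) q.1, ores (hW x) q.2) := by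
      intro x
      apply (hb x).1
      rw [← ores_pr f y hV (hW x), ← ores_pr f y hV (hW x), hpq]
    exact Prod.ext (ores_ext W hW hcov fun x => congrArg Prod.fst (h1 x))
      (ores_ext W hW hcov fun x => congrArg Prod.snd (h1 x))
  refine ⟨hinj V hV, fun a => ?_⟩
  choose W hW hxW hb using hloc V hV
  have hcov : V ≤ ⨆ x, W x := fun x hx => Opens.mem_iSup.2 ⟨⟨x, hx⟩, hxW ⟨x, hx⟩⟩
  choose p hp using fun x => (hb x).2 (ores (f.preimage_mono (hW x)) a)
  have hagree : ∀ x x', (ores (inf_le_left : W x ⊓ W x' ≤ W x) (p x).1, ores (inf_le_left : W x ⊓ W x' ≤ W x) (p x).2) =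
      (ores (inf_le_right : W x ⊓ W x' ≤ W x') (p x').1, ores (inf_le_right : W x ⊓ W x' ≤ W x') (p x').2) := by
    intro x x'
    apply hinj _ (inf_le_left.trans ((hW x).trans hV))
    rw [← ores_pr f y ((hW x).trans hV) inf_le_left, ← ores_pr f y ((hW x').trans hV) inf_le_right, hp, hp,
      ores_ores, ores_ores]
  obtain ⟨s, hs⟩ := ores_glue W hW hcov (fun x => (p x).1) (fun x x' => congrArg Prod.fst (hagree x x'))
  obtain ⟨t, ht⟩ := ores_glue W hW hcov (fun x => (p x).2) (fun x x' => congrArg Prod.snd (hagree x x'))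
  refine ⟨(s, t), ?_⟩
  have hcov' : f ⁻¹ᵁ V ≤ ⨆ x, f ⁻¹ᵁ W x := by
    rw [← Scheme.Hom.preimage_iSup]
    exact f.preimage_mono hcov
  refine ores_ext (fun x => f ⁻¹ᵁ W x) (fun x => f.preimage_mono (hW x)) hcov' fun x => ?_
  rw [ores_pr f y hV (hW x), hs, ht]
  exact hp x

end Pair

section Rank

variable {X Y : Scheme.{u}} (f : X ⟶ Y) [IsFinite f] [Flat f]

/-- The rank of a finite flat morphism over an affine open on which it is free. -/
theorem finrank_eq_of_free {V : Y.Opens} (hV : IsAffineOpen V) (y : Y) (hy : y ∈ V)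
    [IsDomain Γ(Y, V)] [IsPrincipalIdealRing Γ(Y, V)] :
    letI := (fa f V).toAlgebra
    Module.Finite Γ(Y, V) Γ(X, f ⁻¹ᵁ V) ∧ Module.Flat Γ(Y, V) Γ(X, f ⁻¹ᵁ V) ∧
      f.finrank y = Module.finrank Γ(Y, V) Γ(X, f ⁻¹ᵁ V) := by
  let _ := (f.app V).hom.toAlgebra
  have hU : IsAffineOpen (f ⁻¹ᵁ V) := hV.preimage f
  have hfin : (f.app V).hom.Finite := f.finite_app V hV
  have hflat : (f.app V).hom.Flat := by
    have := f.flat_appLE hV hU le_rfl
    rwa [Scheme.Hom.appLE_eq_app] at this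
  have h1 : Module.Finite Γ(Y, V) Γ(X, f ⁻¹ᵁ V) := hfin
  have h2 : Module.Flat Γ(Y, V) Γ(X, f ⁻¹ᵁ V) := hflat
  refine ⟨h1, h2, ?_⟩
  have : Module.Free Γ(Y, V) Γ(X, f ⁻¹ᵁ V) := inferInstance
  obtain ⟨p, rfl⟩ : y ∈ Set.range hV.fromSpec := by
    rw [hV.range_fromSpec]
    exact hy
  have hpb : IsPullback hU.fromSpec (Spec.map (f.app V)) f hV.fromSpec := by
    refine (IsOpenImmersion.isPullback _ hU.fromSpec hV.fromSpec f ?_ ?_).flip
    · have := IsAffineOpen.SpecMap_appLE_fromSpec f hV hU le_rfl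
      rw [Scheme.Hom.appLE_eq_app] at this
      exact this.symm
    · rw [hV.opensRange_fromSpec, hU.opensRange_fromSpec]
  rw [← Scheme.Hom.finrank_of_isPullback _ _ _ _ hpb p]
  refine (Scheme.Hom.finrank_SpecMap_algebraMap Γ(Y, V) Γ(X, f ⁻¹ᵁ V) p).trans ?_
  rw [Module.rankAtStalk_eq_finrank_of_free]
  rfl

end Rank

section Cover

variable (k : Type u) [Field k] {C : Scheme.{u}} (κ : C ⟶ CohB1.ProjSpace 1 k) [IsFinite κ] [Flat κ]

/-- The standard chart is nonempty. -/
theorem exists_mem_Dp (i : Fin 2) : ∃ y, y ∈ Dp 1 k i := by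
  by_contra h
  push Not at h
  have h1 : Dp 1 k i = ⊥ := by
    ext x
    exact ⟨fun hx => absurd hx (h x), fun hx => absurd hx id⟩
  have h2 : Subsingleton Γ(CohB1.ProjSpace 1 k, Dp 1 k i) := by
    rw [h1]; infer_instance
  exact one_ne_zero (Subsingleton.elim (1 : Γ(CohB1.ProjSpace 1 k, Dp 1 k i)) 0)

theorem exists_basis (hκ2 : ∀ y : ↥(CohB1.ProjSpace 1 k), κ.finrank y = 2) :
    ∃ y : ∀ i : Fin 2, Γ(C, κ ⁻¹ᵁ Dp 1 k i), ∀ (i : Fin 2) (V : (CohB1.ProjSpace 1 k).Opens) (hV : V ≤ Dp 1 k i),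
      Function.Bijective (pr κ (y i) V hV) := by
  have h : ∀ i : Fin 2, ∃ y : Γ(C, κ ⁻¹ᵁ Dp 1 k i), Function.Bijective (pr κ y (Dp 1 k i) le_rfl) := by
    intro i
    obtain ⟨z, hz⟩ := exists_mem_Dp k i
    obtain ⟨h1, h2, h3⟩ := finrank_eq_of_free κ (isAffineOpen_Dp 1 k i) z hz
    rw [hκ2] at h3
    let _ := (fa κ (Dp 1 k i)).toAlgebra
    obtain ⟨y, hy⟩ := exists_y (R := Γ(CohB1.ProjSpace 1 k, Dp 1 k i)) (A := Γ(C, κ ⁻¹ᵁ Dp 1 k i)) h3.symm
    refine ⟨y, ?_⟩
    have h4 : pr κ y (Dp 1 k i) le_rfl = fun p => algebraMap Γ(CohB1.ProjSpace 1 k, Dp 1 k i) Γ(C, κ ⁻¹ᵁ Dp 1 k i) p.1 +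
        algebraMap Γ(CohB1.ProjSpace 1 k, Dp 1 k i) Γ(C, κ ⁻¹ᵁ Dp 1 k i) p.2 * y := by
      funext p
      rw [pr, ores_refl]
      rfl
    rw [h4]
    exact hy
  choose y hy using h
  exact ⟨y, fun i V hV => pr_bijective κ (isAffineOpen_Dp 1 k i) ((isAffineOpen_Dp 1 k i).preimage κ) (y i) (hy i) V hV⟩

end Cover

end K980.DCover
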