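import Groth.Agent.HypSq.K980.Graph
import Groth.Agent.Picfga.LineHom
import Groth.Agent.Grpsch.PicGrp
import Groth.Agent.Divis.IdealComap

/-!
# The involution of a double cover and its graph

`C` integral, `κ : C ⟶ P^1` with bases `1, y i`; `σ ≠ 1` with `σ ≫ κ = κ`.
* `ts_y_eq`: `σ^♯ y = c - y` for a function `c` of the coordinate.
* `dl_mul_dl_mem`: the product of the two differences is divisible by `w`.
* `pull_idealMod_gr`: the pullback of the ideal of one graph along the other is `κ^* Q`.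
-/

set_option autoImplicit false
universe u

open CategoryTheory CategoryTheory.Limits AlgebraicGeometry Opposite TopologicalSpace

namespace K980.Double

open Groth.Agent Groth.Agent.Fdesc.LocGen Groth.Agent.Ega3B.KunnethSec Groth.Agent.CurvesC.ProjSpaceBasic
open K980.P1Chart K980.DCover K980.Graph K980.CokerQ
open Groth.Agent.Picfga.LineHom Groth.Agent.Dix.IdealModCartier Groth.Agent.Grpsch.PicGrp

variable (k : Type u) [Field k] {C : Scheme.{u}} (κ : C ⟶ CohB1.ProjSpace 1 k)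

section Chart

variable (i : Fin 2) (y : Γ(C, Ci k κ i)) (hy : Function.Bijective (pr κ y (Dp 1 k i) le_rfl))

include hy in
theorem Ci_nonempty : Nonempty (Ci k κ i) := by
  by_contra hne
  have h1 : Ci k κ i = ⊥ := by
    ext x
    exact ⟨fun hx => hne ⟨⟨x, hx⟩⟩, fun hx => absurd hx id⟩
  have h2 : Subsingleton Γ(C, Ci k κ i) := by
    rw [h1]
    infer_instance
  have h3 : ((1 : Γ(CohB1.ProjSpace 1 k, Dp 1 k i)), (0 : Γ(CohB1.ProjSpace 1 k, Dp 1 k i))) = (0, 0) :=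
    hy.1 (Subsingleton.elim _ _)
  exact one_ne_zero (congrArg Prod.fst h3)

include hy in
theorem exists_quad : ∃ c n : Γ(CohB1.ProjSpace 1 k, Dp 1 k i),
    y * y = fa κ _ c * y - fa κ _ n := by
  obtain ⟨p, hp⟩ := hy.2 (y * y)
  refine ⟨p.2, -p.1, ?_⟩
  rw [← hp]
  simp only [pr, ores_refl, map_neg]
  ring

include hy in
theorem ts_y_eq [IsIntegral C] {σ : C ⟶ C} (h : σ ≫ κ = κ) (hne : ts k κ h i y ≠ y)
    {c n : Γ(CohB1.ProjSpace 1 k, Dp 1 k i)} (hc : y * y = fa κ _ c * y - fa κ _ n) :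
    ts k κ h i y = fa κ _ c - y := by
  have := Ci_nonempty k κ i y hy
  have h1 := congrArg (ts k κ h i) hc
  rw [map_sub, map_mul, map_mul, ts_fa, ts_fa] at h1
  have h2 : (ts k κ h i y - y) * (ts k κ h i y + y - fa κ _ c) = 0 := by
    linear_combination h1 - hc
  rcases mul_eq_zero.1 h2 with h3 | h3
  · exact absurd (sub_eq_zero.1 h3) hne
  · linear_combination h3

variable [C.Over (Spec (CommRingCat.of k))]
  (hκ : κ ≫ CohB1.ProjSpace.toSpec 1 k = (C ↘ Spec (CommRingCat.of k)))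

include hκ in
theorem ts_ne [IsIntegral C] [IsFinite κ] [IsSeparated (C ↘ Spec (CommRingCat.of k))] {σ : C ⟶ C}
    (hy : Function.Bijective (pr κ y (Dp 1 k i) le_rfl))
    (h : σ ≫ κ = κ) (hσ : σ ≠ 𝟙 C) : ts k κ h i y ≠ y := by
  intro h1
  apply hσ
  have hid : ∀ a, ts k κ h i a = a := by
    intro a
    obtain ⟨p, rfl⟩ := hy.2 a
    simp only [pr, ores_refl, map_add, map_mul, ts_fa, h1]
  have hne := Ci_nonempty k κ i y hy
  have haff : IsAffine (Ci k κ i) := (isAffineOpen_Dp 1 k i).preimage κ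
  have hdom : IsDominant (Ci k κ i).ι := AlgebraicGeometry.Opens.isDominant_ι (IsOpen.dense (Ci k κ i).2
    ⟨hne.some.1, hne.some.2⟩)
  refine ext_of_isDominant_of_isSeparated (C ↘ Spec (CommRingCat.of k)) ?_ (Ci k κ i).ι ?_
  · rw [tau_over k κ hκ h, Category.id_comp]
  · rw [Category.comp_id, ← Scheme.Hom.resLE_comp_ι σ (le_tau h i)]
    have h2 : σ.resLE (Ci k κ i) (Ci k κ i) (le_tau h i) = 𝟙 _ := by
      apply ext_of_isAffine
      rw [Scheme.Hom.appTop, Scheme.Hom.resLE_app_top]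
      have h3 : σ.appLE (Ci k κ i) (Ci k κ i) (le_tau h i) = 𝟙 _ := by
        ext a
        exact hid a
      rw [h3, Category.id_comp, Iso.hom_inv_id]
      rfl
    rw [h2, Category.id_comp]

include hκ in
/-- The product of the two differences is divisible by `w`. -/
theorem dl_mul_dl_mem [IsIntegral C] {σ : C ⟶ C} (hy : Function.Bijective (pr κ y (Dp 1 k i) le_rfl))
    (h : σ ≫ κ = κ) (hne : ts k κ h i y ≠ y) :
    dl k κ (Category.id_comp κ) i y * dl k κ h i y ∈ Ideal.span {w k κ i} := by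
  obtain ⟨c, n, hc⟩ := exists_quad k κ i y hy
  rw [dl, dl, ts_id, ts_y_eq k κ i y hy h hne hc, map_sub]
  have h1 := q1_fa_sub_mem k κ hκ i c
  have h2 := q1_fa_sub_mem k κ hκ i n
  have h3 := congrArg (q1 k κ i i) hc
  have h4 := congrArg (q2 k κ i i) hc
  rw [map_sub, map_mul, map_mul] at h3 h4
  have h5 : (q1 k κ i i y - q2 k κ i i y) * (q1 k κ i i (fa κ _ c) - q1 k κ i i y - q2 k κ i i y) =
      (q1 k κ i i (fa κ _ n) - q2 k κ i i (fa κ _ n)) -
        q2 k κ i i y * (q1 k κ i i (fa κ _ c) - q2 k κ i i (fa κ _ c)) := by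
    linear_combination -h3 + h4
  rw [h5]
  exact sub_mem h2 (Ideal.mul_mem_left _ _ h1)

end Chart

section Pull

variable [C.Over (Spec (CommRingCat.of k))]
  (hκ : κ ≫ CohB1.ProjSpace.toSpec 1 k = (C ↘ Spec (CommRingCat.of k)))
  [IsIntegral C] [IsFinite κ] [IsSeparated (C ↘ Spec (CommRingCat.of k))]
  (y : ∀ i : Fin 2, Γ(C, κ ⁻¹ᵁ Dp 1 k i))
  (hy : ∀ (i : Fin 2) (V : (CohB1.ProjSpace 1 k).Opens) (hV : V ≤ Dp 1 k i), Function.Bijective (pr κ (y i) V hV))
  {τ τ' : C ⟶ C} (h : τ ≫ κ = κ) (hτ : τ ≫ (C ↘ Spec (CommRingCat.of k)) = C ↘ Spec (CommRingCat.of k))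
  (h' : τ' ≫ κ = κ) (hτ' : τ' ≫ (C ↘ Spec (CommRingCat.of k)) = C ↘ Spec (CommRingCat.of k))
  (hne : ∀ i, ts k κ h' i (y i) ≠ ts k κ h i (y i))

include hκ hy hne h in
theorem genOn_comap (i : Fin 2) : GenOn ((gr k τ' hτ').ker.comap (gr k τ hτ)) (U := Ci k κ i)
    (ts k κ h' i (y i) - ts k κ h i (y i)) := by
  have hn := Ci_nonempty k κ i (y i) (hy i _ le_rfl)
  have haff : IsAffineOpen (Ci k κ i) := (isAffineOpen_Dp 1 k i).preimage κ
  refine genOn_of_affine (U := ⟨Ci k κ i, haff⟩) (mem_nonZeroDivisors_of_ne_zero (sub_ne_zero.2 (hne i))) ?_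
  rw [Groth.Agent.Divis.IdealComap.ideal_comap (gr k τ' hτ').ker (gr k τ hτ) ⟨W k κ i i, isAffineOpen_W k κ i i⟩
    ⟨Ci k κ i, haff⟩ (le_gr h hτ i i le_rfl le_rfl), ideal_gr k κ hκ h' hτ' i (y i) (hy i _ le_rfl).2, Ideal.map_span]
  have e1 : ((gr k τ hτ).appLE (W k κ i i) (Ci k κ i) (le_gr h hτ i i le_rfl le_rfl)).hom (w k κ i) = 0 :=
    gm_w k κ h hτ i le_rfl
  have e2 : ((gr k τ hτ).appLE (W k κ i i) (Ci k κ i) (le_gr h hτ i i le_rfl le_rfl)).hom (dl k κ h' i (y i)) =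
      ts k κ h' i (y i) - ts k κ h i (y i) :=
    (gm_dl k κ h' i le_rfl h hτ (y i)).trans (ores_refl _)
  rw [Set.image_pair, e1, e2, Ideal.span_insert_zero]

omit [C.Over (Spec (CommRingCat.of k))] [IsIntegral C] [IsFinite κ] [IsSeparated (C ↘ Spec (CommRingCat.of k))] in
theorem iSup_Ci : ⨆ i, Ci k κ i = ⊤ := by
  have h1 := congr(κ ⁻¹ᵁ $(iSup_Dp 1 k))
  rw [Scheme.Hom.preimage_iSup] at h1
  exact h1

include hκ hy hne h in
theorem isEffCartierIdeal_comap : BlowUp.IsEffCartierIdeal ((gr k τ' hτ').ker.comap (gr k τ hτ)) := by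
  intro x
  have hx : x ∈ (⨆ i, Ci k κ i) := by rw [iSup_Ci]; trivial
  obtain ⟨i, hi⟩ := Opens.mem_iSup.1 hx
  have h1 := genOn_comap k κ hκ y hy h hτ h' hτ' hne i ⟨Ci k κ i, (isAffineOpen_Dp 1 k i).preimage κ⟩ le_rfl
  exact ⟨⟨Ci k κ i, (isAffineOpen_Dp 1 k i).preimage κ⟩, hi, _, h1.1, h1.2⟩

include hκ hy hne h in
/-- The pullback of the ideal of one graph along the other is `κ^* Q`. -/
theorem nonempty_iso : Nonempty ((Scheme.Modules.pullback κ).obj (Q κ) ≅
    ClSub.idealMod ((gr k τ' hτ').ker.comap (gr k τ hτ))) := by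
  have hg := genOn_comap k κ hκ y hy h hτ h' hτ' hne
  have hn : ∀ i, ∃ n : Γ(ClSub.idealMod ((gr k τ' hτ').ker.comap (gr k τ hτ)), Ci k κ i),
      val _ n = ts k κ h' i (y i) - ts k κ h i (y i) := fun i => by
    refine exists_val_eq_of_local _ _ _ ?_
    intro x hx
    obtain ⟨V, hxV, hV⟩ := exists_affine_mem_le _ x hx
    refine ⟨V, hV, hxV, ?_⟩
    rw [(hg i V hV).2]
    exact Ideal.mem_span_singleton_self _
  choose n hn using hn
  have gn : ∀ i, IsGen (n i) := fun i => isGen_of_genOn ((hn i).symm ▸ hg i)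
  have gq : ∀ i, IsGen (q κ (fun i => Dp 1 k i) y i) := isGen_q κ (fun i => Dp 1 k i) (iSup_Dp 1 k) y hy
  obtain ⟨φ, -⟩ := exists_iso (L := (Scheme.Modules.pullback κ).obj (Q κ))
    (N := ClSub.idealMod ((gr k τ' hτ').ker.comap (gr k τ hτ))) (iSup_Ci k κ)
    (e := fun i => pullSec κ (q κ (fun i => Dp 1 k i) y i)) (fun i => (gq i).pullSec κ) (n := n)
    (trans_of_inf (fun i => (gq i).pullSec κ) (by
      intro i j
      obtain ⟨a, b, hab, hq⟩ := exists_trans κ (fun i => Dp 1 k i) y i j (Dp 1 k i ⊓ Dp 1 k j) inf_le_left inf_le_right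
        (hy j _ _)
      refine ⟨fa κ (Dp 1 k i ⊓ Dp 1 k j) a, ?_, ?_⟩
      · have h1 := congr(pullSec κ $hq)
        rw [pullSec_smul, ← res_pullSec, ← res_pullSec] at h1
        exact h1
      · apply val_injective
        rw [val_smul, val_res, val_res, hn, hn]
        have h1 := ores_tv k κ h' (inf_le_left : Dp 1 k i ⊓ Dp 1 k j ≤ _) (y i)
        have h2 := ores_tv k κ h (inf_le_left : Dp 1 k i ⊓ Dp 1 k j ≤ _) (y i)
        have h3 := ores_tv k κ h' (inf_le_right : Dp 1 k i ⊓ Dp 1 k j ≤ _) (y j)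
        have h4 := ores_tv k κ h (inf_le_right : Dp 1 k i ⊓ Dp 1 k j ≤ _) (y j)
        rw [hab, map_add, map_mul, tv_fa, tv_fa] at h1 h2
        rw [map_sub, map_sub, ts_eq_tv, ts_eq_tv, ts_eq_tv, ts_eq_tv]
        refine Eq.trans (congrArg₂ (· - ·) h1 h2) ?_
        refine Eq.trans ?_ (congrArg₂ (fun s t => fa κ (Dp 1 k i ⊓ Dp 1 k j) a * (s - t)) h3 h4).symm
        exact (add_sub_add_left_eq_sub _ _ _).trans (mul_sub _ _ _).symm)) gn
  exact ⟨φ⟩

include hκ hy hne h in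
/-- The class of the pullback of the ideal of one graph along the other. -/
theorem pull_mk_idealMod (hD : PicF.IsInvertible (ClSub.idealMod (gr k τ' hτ').ker)) :
    pull (gr k τ hτ) (mk _ hD) = pull κ (mk (Q κ) (isInvertible_Q κ (fun i => Dp 1 k i) (iSup_Dp 1 k) y hy)) := by
  rw [pull_mk, pull_mk]
  obtain ⟨e⟩ := nonempty_iso k κ hκ y hy h hτ h' hτ' hne
  obtain ⟨e2⟩ := pullback_idealMod (gr k τ hτ) (isEffCartierIdeal_of_isInvertible hD)
    (isEffCartierIdeal_comap k κ hκ y hy h hτ h' hτ' hne)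
  exact mk_congr (e2 ≪≫ e.symm)

end Pull

end K980.Double
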