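import Groth.Agent.VarietyB.ProjStd
import Groth.Agent.Sga5.ProjChart
import Groth.Agent.CurvesC.ProjSpaceBasic
import Groth.Agent.Ega3B.KunnethSec
import Groth.Agent.Fdesc.LocGen

/-!
# The standard charts of the projective line

* `polyEquiv k i : MvPolynomial (Fin 1) k ≃+* Γ(P^1, D_+(X_i))`; the chart ring is a principal ideal domain.
* `hom_ext`: ring homomorphisms out of the chart ring are determined on `k` and on the coordinate `tt k i`.
-/

set_option autoImplicit false
universe u

open CategoryTheory CategoryTheory.Limits AlgebraicGeometry Opposite TopologicalSpace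

namespace K980.P1Chart

open Groth.Agent Groth.Agent.CurvesC.ProjSpaceBasic Groth.Agent.Sga5 Groth.Agent.Ega3B.KunnethSec
open Groth.Agent.Fdesc.LocGen

variable (k : Type u) [Field k] (i : Fin 2)

/-- Polynomials as functions on the chart. -/
noncomputable def polyTo : MvPolynomial (Fin 1) k →+* Γ(CohB1.ProjSpace 1 k, Dp 1 k i) :=
  (Proj.awayToSection (CohB1.polyGrading 1 k) (MvPolynomial.X i)).hom.comp (ProjChart.ofPoly 1 k i)

theorem polyTo_bijective : Function.Bijective (polyTo k i) := by
  have h1 : Function.Bijective (ProjChart.ofPoly 1 k i) := (ProjChart.chartEquiv 1 k i).bijective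
  have h2 : IsIso (Proj.awayToSection (CohB1.polyGrading 1 k) (MvPolynomial.X i)) := by
    rw [← Proj.basicOpenIsoAway_hom (CohB1.polyGrading 1 k) (MvPolynomial.X i) (X_mem 1 k i) Nat.one_pos]
    infer_instance
  have h3 := ConcreteCategory.bijective_of_isIso (Proj.awayToSection (CohB1.polyGrading 1 k) (MvPolynomial.X i))
  exact h3.comp h1

/-- The chart ring is the polynomial ring. -/
noncomputable def polyEquiv : MvPolynomial (Fin 1) k ≃+* Γ(CohB1.ProjSpace 1 k, Dp 1 k i) :=
  RingEquiv.ofBijective (polyTo k i) (polyTo_bijective k i)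

/-- The coordinate on the chart. -/
noncomputable def tt : Γ(CohB1.ProjSpace 1 k, Dp 1 k i) := ratio 1 k i (i.succAbove 0)

/-- The constants. -/
noncomputable def cst : k →+* Γ(CohB1.ProjSpace 1 k, Dp 1 k i) := toSec k (CohB1.ProjSpace.toSpec 1 k) (Dp 1 k i)

theorem polyTo_X : polyTo k i (MvPolynomial.X 0) = tt k i := by
  have h : ProjChart.ofPoly 1 k i (MvPolynomial.X 0) = ProjChart.coord 1 k i (i.succAbove 0) := by
    simp [ProjChart.ofPoly]
  change (Proj.awayToSection (CohB1.polyGrading 1 k) (MvPolynomial.X i)).hom (ProjChart.ofPoly 1 k i (MvPolynomial.X 0)) = _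
  rw [h]
  rfl

theorem polyTo_C (a : k) : polyTo k i (MvPolynomial.C a) = cst k i a := by
  have h : ProjChart.ofPoly 1 k i (MvPolynomial.C a) = ProjChart.chartC 1 k i a := by
    simp [ProjChart.ofPoly]
  have h2 := congrArg (fun f : k →+* _ => f a) (VarietyB.ProjStd.baseHom_std (Fin 2) k i)
  refine Eq.trans ?_ h2.symm
  change (Proj.awayToSection (CohB1.polyGrading 1 k) (MvPolynomial.X i)).hom (ProjChart.ofPoly 1 k i (MvPolynomial.C a)) = _
  rw [h]
  rfl

theorem hom_ext {S : Type*} [CommRing S] (f g : Γ(CohB1.ProjSpace 1 k, Dp 1 k i) →+* S)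
    (hk : ∀ a, f (cst k i a) = g (cst k i a)) (ht : f (tt k i) = g (tt k i)) : f = g := by
  have h : f.comp (polyTo k i) = g.comp (polyTo k i) := by
    apply MvPolynomial.ringHom_ext
    · intro a
      simp only [RingHom.comp_apply, polyTo_C, hk]
    · intro j
      obtain rfl : j = 0 := Subsingleton.elim _ _
      simp only [RingHom.comp_apply, polyTo_X, ht]
  ext x
  obtain ⟨y, rfl⟩ := (polyTo_bijective k i).2 x
  exact RingHom.congr_fun h y

instance : IsDomain Γ(CohB1.ProjSpace 1 k, Dp 1 k i) :=
  (polyEquiv k i).symm.toMulEquiv.isDomain _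

instance : IsPrincipalIdealRing Γ(CohB1.ProjSpace 1 k, Dp 1 k i) := by
  have e : MvPolynomial (Fin 1) k ≃+* Polynomial k := (MvPolynomial.uniqueAlgEquiv k (Fin 1)).toRingEquiv
  have : IsPrincipalIdealRing (MvPolynomial (Fin 1) k) :=
    IsPrincipalIdealRing.of_surjective e.symm.toRingHom e.symm.surjective
  exact IsPrincipalIdealRing.of_surjective (polyTo k i) (polyTo_bijective k i).2

theorem ratio_self : ratio 1 k i i = 1 := by
  have h : HomogeneousLocalization.Away.mk _ (X_mem 1 k i) 1 (MvPolynomial.X i) (by rw [one_smul]; exact X_mem 1 k i) =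
      ProjChart.coord 1 k i i := rfl
  rw [ratio, h, ProjChart.coord_self]
  exact map_one _

theorem basicOpen_ratio (j : Fin 2) : (CohB1.ProjSpace 1 k).basicOpen (ratio 1 k i j) = Dp 1 k i ⊓ Dp 1 k j := by
  have h := VarietyB.ProjStd.stdData_basicOpen (Fin 2) k i j
  have h2 : VarietyB.ProjStd.ratio (Fin 2) k i j = ratio 1 k i j := by
    have h1 := VarietyB.ProjStd.deh_of_isHomogeneous (Fin 2) k i (n := 1) (MvPolynomial.X j)
      (by simpa using MvPolynomial.isHomogeneous_X k j)
    change Proj.awayToSection _ _ (VarietyB.ProjStd.deh (Fin 2) k i (MvPolynomial.X j)) = _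
    rw [h1]
    rfl
  rw [← h2]
  exact h

end K980.P1Chart
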