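import Groth.Agent.HypSq.K980.CokerQ
import Groth.Agent.HypSq.K980.P1Chart
import Groth.Agent.Dix.IdealModCartier
import Groth.Agent.Ega3B.KunnethSec
import Mathlib.AlgebraicGeometry.Morphisms.Separated

/-!
# Graphs of automorphisms of a double cover

`κ : C ⟶ P^1` with bases `1, y i` over the standard charts, `τ : C ⟶ C` with `τ ≫ κ = κ`; on
`W i = C_i × C_i` the ideal of the graph of `τ` is generated by `w i = t ⊗ 1 - 1 ⊗ t` and
`dl τ i = τ^♯ y ⊗ 1 - 1 ⊗ y` (`ideal_gr`).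
-/

set_option autoImplicit false
universe u

open CategoryTheory CategoryTheory.Limits AlgebraicGeometry Opposite TopologicalSpace

namespace K980.Graph

open Groth.Agent Groth.Agent.Fdesc.LocGen Groth.Agent.Ega3B.KunnethSec Groth.Agent.CurvesC.ProjSpaceBasic
open K980.P1Chart K980.DCover

theorem appLE_congr {X Y : Scheme.{u}} {f g : X ⟶ Y} (h : f = g) {U : Y.Opens} {V : X.Opens} (e : V ≤ f ⁻¹ᵁ U) :
    f.appLE U V e = g.appLE U V (h ▸ e) := by subst h; rfl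

/-- Pullback of functions to an open. -/
noncomputable def pl {X Y : Scheme.{u}} (f : X ⟶ Y) {U : Y.Opens} {V : X.Opens} (e : V ≤ f ⁻¹ᵁ U) :
    Γ(Y, U) →+* Γ(X, V) := (f.appLE U V e).hom

section pl

variable {X Y Z : Scheme.{u}}

theorem pl_congr {f g : X ⟶ Y} (h : f = g) {U : Y.Opens} {V : X.Opens} (e : V ≤ f ⁻¹ᵁ U) (a : Γ(Y, U)) :
    pl f e a = pl g (h ▸ e) a := by subst h; rfl

theorem pl_pl (f : X ⟶ Y) (g : Y ⟶ Z) {U : Z.Opens} {V : Y.Opens} {W : X.Opens} (e : V ≤ g ⁻¹ᵁ U) (e' : W ≤ f ⁻¹ᵁ V)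
    (a : Γ(Z, U)) : pl f e' (pl g e a) = pl (f ≫ g) (e'.trans (f.preimage_mono e)) a := by
  have h := Scheme.Hom.appLE_comp_appLE f g U V W e e'
  exact congr($h a)

theorem ores_pl (f : X ⟶ Y) {U : Y.Opens} {V W : X.Opens} (e : V ≤ f ⁻¹ᵁ U) (h : W ≤ V) (a : Γ(Y, U)) :
    ores h (pl f e a) = pl f (h.trans e) a := by
  have h := f.appLE_map e (homOfLE h).op
  exact congr($h a)

theorem pl_ores (f : X ⟶ Y) {U U' : Y.Opens} {V : X.Opens} (h : U' ≤ U) (e : V ≤ f ⁻¹ᵁ U') (a : Γ(Y, U)) :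
    pl f e (ores h a) = pl f (e.trans (f.preimage_mono h)) a := by
  have h := f.map_appLE e (homOfLE h).op
  exact congr($h a)

theorem pl_id {U V : X.Opens} (e : V ≤ U) (a : Γ(X, U)) : pl (𝟙 X) e a = ores e a := by
  have h : (𝟙 X : X ⟶ X).appLE U V e = X.presheaf.map (homOfLE e).op := by
    rw [Scheme.Hom.appLE, Scheme.Hom.id_app]
    exact Category.id_comp _
  exact congr($h a)

theorem pl_eq_fa (f : X ⟶ Y) (U : Y.Opens) (a : Γ(Y, U)) : pl f (le_refl (f ⁻¹ᵁ U)) a = fa f U a := by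
  have h := f.app_eq_appLE (U := U)
  exact congr($h.symm a)

theorem pl_eq_ores_fa (f : X ⟶ Y) {U : Y.Opens} {V : X.Opens} (e : V ≤ f ⁻¹ᵁ U) (a : Γ(Y, U)) :
    pl f e a = ores e (fa f U a) := by
  rw [← pl_eq_fa, ores_pl]

end pl

variable (k : Type u) [Field k] {C : Scheme.{u}} [C.Over (Spec (CommRingCat.of k))] (κ : C ⟶ CohB1.ProjSpace 1 k)
  (hκ : κ ≫ CohB1.ProjSpace.toSpec 1 k = (C ↘ Spec (CommRingCat.of k)))

local notation "XX" => pullback (C ↘ Spec (CommRingCat.of k)) (C ↘ Spec (CommRingCat.of k))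
local notation "p₁" => pullback.fst (C ↘ Spec (CommRingCat.of k)) (C ↘ Spec (CommRingCat.of k))
local notation "p₂" => pullback.snd (C ↘ Spec (CommRingCat.of k)) (C ↘ Spec (CommRingCat.of k))

/-- The open `C_i`. -/
noncomputable abbrev Ci (i : Fin 2) : C.Opens := κ ⁻¹ᵁ Dp 1 k i

/-- The graph. -/
noncomputable abbrev gr (τ : C ⟶ C) (hτ : τ ≫ (C ↘ Spec (CommRingCat.of k)) = C ↘ Spec (CommRingCat.of k)) :
    C ⟶ XX := pullback.lift (𝟙 C) τ ((Category.id_comp (C ↘ Spec (CommRingCat.of k))).trans hτ.symm)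

theorem gr_id : gr k (𝟙 C) (Category.id_comp _) = pullback.diagonal (C ↘ Spec (CommRingCat.of k)) := rfl

/-- The opens `C_i × C_j`. -/
noncomputable abbrev W (i j : Fin 2) : (XX).Opens :=
  box (C ↘ Spec (CommRingCat.of k)) (C ↘ Spec (CommRingCat.of k)) (Ci k κ i) (Ci k κ j)

theorem isAffineOpen_W [IsFinite κ] (i j : Fin 2) : IsAffineOpen (W k κ i j) :=
  isAffineOpen_box _ _ _ _ ((isAffineOpen_Dp 1 k i).preimage κ) ((isAffineOpen_Dp 1 k j).preimage κ)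

omit [C.Over (Spec (CommRingCat.of k))] in
variable {k κ} in
theorem le_tau {τ : C ⟶ C} (h : τ ≫ κ = κ) (i : Fin 2) : Ci k κ i ≤ τ ⁻¹ᵁ Ci k κ i := by
  change _ ≤ τ ⁻¹ᵁ κ ⁻¹ᵁ _
  rw [← Scheme.Hom.comp_preimage, h]

omit [C.Over (Spec (CommRingCat.of k))] in
variable {k κ} in
theorem le_tauV {τ : C ⟶ C} (h : τ ≫ κ = κ) (V : (CohB1.ProjSpace 1 k).Opens) : κ ⁻¹ᵁ V ≤ τ ⁻¹ᵁ κ ⁻¹ᵁ V := by
  rw [← Scheme.Hom.comp_preimage, h]

/-- The action of `τ` on functions on `κ⁻¹ V`. -/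
noncomputable def tv {τ : C ⟶ C} (h : τ ≫ κ = κ) (V : (CohB1.ProjSpace 1 k).Opens) :
    Γ(C, κ ⁻¹ᵁ V) →+* Γ(C, κ ⁻¹ᵁ V) := pl τ (le_tauV h V)

omit [C.Over (Spec (CommRingCat.of k))] in
theorem tv_fa {τ : C ⟶ C} (h : τ ≫ κ = κ) (V : (CohB1.ProjSpace 1 k).Opens) (a : Γ(CohB1.ProjSpace 1 k, V)) :
    tv k κ h V (fa κ V a) = fa κ V a := by
  rw [tv, ← pl_eq_fa, pl_pl, pl_congr h]

omit [C.Over (Spec (CommRingCat.of k))] in
theorem ores_tv {τ : C ⟶ C} (h : τ ≫ κ = κ) {U V : (CohB1.ProjSpace 1 k).Opens} (hV : V ≤ U) (a : Γ(C, κ ⁻¹ᵁ U)) :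
    ores (κ.preimage_mono hV) (tv k κ h U a) = tv k κ h V (ores (κ.preimage_mono hV) a) := by
  rw [tv, tv, ores_pl, pl_ores]

/-- The action of `τ` on functions on `C_i`. -/
noncomputable def ts {τ : C ⟶ C} (h : τ ≫ κ = κ) (i : Fin 2) : Γ(C, Ci k κ i) →+* Γ(C, Ci k κ i) := pl τ (le_tau h i)

omit [C.Over (Spec (CommRingCat.of k))] in
theorem ts_eq_tv {τ : C ⟶ C} (h : τ ≫ κ = κ) (i : Fin 2) : ts k κ h i = tv k κ h (Dp 1 k i) := rfl

omit [C.Over (Spec (CommRingCat.of k))] in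
theorem ts_fa {τ : C ⟶ C} (h : τ ≫ κ = κ) (i : Fin 2) (a : Γ(CohB1.ProjSpace 1 k, Dp 1 k i)) :
    ts k κ h i (fa κ (Dp 1 k i) a) = fa κ (Dp 1 k i) a := by
  rw [ts, ← pl_eq_fa, pl_pl, pl_congr h]

omit [C.Over (Spec (CommRingCat.of k))] in
theorem ts_id (i : Fin 2) (a : Γ(C, Ci k κ i)) : ts k κ (Category.id_comp κ) i a = a := by
  rw [ts, pl_id, ores_refl]

include hκ in
theorem tau_over {τ : C ⟶ C} (h : τ ≫ κ = κ) : τ ≫ (C ↘ Spec (CommRingCat.of k)) = C ↘ Spec (CommRingCat.of k) := by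
  rw [← hκ, ← Category.assoc, h]

section Chart

variable {τ : C ⟶ C} (h : τ ≫ κ = κ) (hτ : τ ≫ (C ↘ Spec (CommRingCat.of k)) = C ↘ Spec (CommRingCat.of k)) (i j : Fin 2)

/-- First projection on functions. -/
noncomputable def q1 : Γ(C, Ci k κ i) →+* Γ(XX, W k κ i j) := pl p₁ inf_le_left

/-- Second projection on functions. -/
noncomputable def q2 : Γ(C, Ci k κ j) →+* Γ(XX, W k κ i j) := pl p₂ inf_le_right

theorem hom_ext_W [IsFinite κ] {S : Type u} [CommRing S] (f g : Γ(XX, W k κ i j) →+* S)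
    (h1 : f.comp (q1 k κ i j) = g.comp (q1 k κ i j)) (h2 : f.comp (q2 k κ i j) = g.comp (q2 k κ i j)) : f = g := by
  have H := isPushout_box (C ↘ Spec (CommRingCat.of k)) (C ↘ Spec (CommRingCat.of k)) (Ci k κ i) (Ci k κ j)
    ((isAffineOpen_Dp 1 k i).preimage κ) ((isAffineOpen_Dp 1 k j).preimage κ)
  have h3 : CommRingCat.ofHom f = CommRingCat.ofHom g := by
    apply H.hom_ext
    · ext a
      exact congr($h1 a)
    · ext a
      exact congr($h2 a)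
  exact congrArg CommRingCat.Hom.hom h3

theorem gr_fst : gr k τ hτ ≫ p₁ = 𝟙 C := pullback.lift_fst _ _ _
theorem gr_snd : gr k τ hτ ≫ p₂ = τ := pullback.lift_snd _ _ _

include h in
theorem gr_preimage : gr k τ hτ ⁻¹ᵁ W k κ i j = Ci k κ i ⊓ Ci k κ j := by
  have e1 : gr k τ hτ ⁻¹ᵁ (p₁ ⁻¹ᵁ Ci k κ i) = Ci k κ i := by
    have := congr(($(gr_fst k hτ)) ⁻¹ᵁ Ci k κ i)
    exact this
  have e2 : gr k τ hτ ⁻¹ᵁ (p₂ ⁻¹ᵁ Ci k κ j) = Ci k κ j := by
    have h1 := congr(($(gr_snd k hτ)) ⁻¹ᵁ Ci k κ j)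
    have h2 := congr(($h) ⁻¹ᵁ Dp 1 k j)
    exact h1.trans h2
  exact congr($e1 ⊓ $e2)

variable {k κ} in
include h in
theorem le_gr {V : C.Opens} (hi : V ≤ Ci k κ i) (hj : V ≤ Ci k κ j) : V ≤ gr k τ hτ ⁻¹ᵁ W k κ i j := by
  rw [gr_preimage k κ h hτ i j]; exact le_inf hi hj

/-- Restriction to the graph. -/
noncomputable def gm {V : C.Opens} (hi : V ≤ Ci k κ i) (hj : V ≤ Ci k κ j) : Γ(XX, W k κ i j) →+* Γ(C, V) :=
  pl (gr k τ hτ) (le_gr h hτ i j hi hj)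

theorem gm_q1 {V : C.Opens} (hi : V ≤ Ci k κ i) (hj : V ≤ Ci k κ j) (a : Γ(C, Ci k κ i)) :
    gm k κ h hτ i j hi hj (q1 k κ i j a) = ores hi a := by
  rw [gm, q1, pl_pl, pl_congr (gr_fst k hτ), pl_id]

theorem gm_q2 {V : C.Opens} (hi : V ≤ Ci k κ i) (hj : V ≤ Ci k κ j) (a : Γ(C, Ci k κ j)) :
    gm k κ h hτ i j hi hj (q2 k κ i j a) = ores hj (ts k κ h j a) := by
  rw [gm, q2, pl_pl, pl_congr (gr_snd k hτ), ts, ores_pl]

include hκ in
theorem q1_cst (a : k) : q1 k κ i j (fa κ (Dp 1 k i) (cst k i a)) = q2 k κ i j (fa κ (Dp 1 k j) (cst k j a)) := by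
  rw [q1, q2, ← pl_eq_fa, ← pl_eq_fa, pl_pl, pl_pl]
  have h1 : pl (p₁ ≫ κ) (U := Dp 1 k i) (V := W k κ i j) (inf_le_left.trans (Scheme.Hom.preimage_mono _ le_rfl)) (cst k i a) =
      toSec k ((p₁ ≫ κ) ≫ CohB1.ProjSpace.toSpec 1 k) (W k κ i j) a := appLE_toSec _ _ _ _ _
  have h2 : pl (p₂ ≫ κ) (U := Dp 1 k j) (V := W k κ i j) (inf_le_right.trans (Scheme.Hom.preimage_mono _ le_rfl)) (cst k j a) =
      toSec k ((p₂ ≫ κ) ≫ CohB1.ProjSpace.toSpec 1 k) (W k κ i j) a := appLE_toSec _ _ _ _ _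
  rw [h1, h2, Category.assoc, Category.assoc, hκ, pullback.condition]

/-- The difference of the coordinates. -/
noncomputable def w : Γ(XX, W k κ i i) :=
  q1 k κ i i (fa κ (Dp 1 k i) (tt k i)) - q2 k κ i i (fa κ (Dp 1 k i) (tt k i))

/-- The difference `τ^♯ y ⊗ 1 - 1 ⊗ y`. -/
noncomputable def dl (y : Γ(C, Ci k κ i)) : Γ(XX, W k κ i i) := q1 k κ i i (ts k κ h i y) - q2 k κ i i y

theorem gm_w {V : C.Opens} (hi : V ≤ Ci k κ i) : gm k κ h hτ i i hi hi (w k κ i) = 0 := by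
  rw [w, map_sub, gm_q1, gm_q2, ts_fa, sub_self]

theorem gm_dl {V : C.Opens} (hi : V ≤ Ci k κ i) {τ' : C ⟶ C} (h' : τ' ≫ κ = κ)
    (hτ' : τ' ≫ (C ↘ Spec (CommRingCat.of k)) = C ↘ Spec (CommRingCat.of k)) (y : Γ(C, Ci k κ i)) :
    gm k κ h' hτ' i i hi hi (dl k κ h i y) = ores hi (ts k κ h i y - ts k κ h' i y) := by
  rw [dl, map_sub, gm_q1, gm_q2, map_sub]

include hκ in
/-- Modulo `w` the two images of a function of the coordinate agree. -/
theorem q1_fa_eq {S : Type u} [CommRing S] (f : Γ(XX, W k κ i i) →+* S) (hw : f (w k κ i) = 0)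
    (a : Γ(CohB1.ProjSpace 1 k, Dp 1 k i)) :
    f (q1 k κ i i (fa κ (Dp 1 k i) a)) = f (q2 k κ i i (fa κ (Dp 1 k i) a)) := by
  have h1 : f.comp ((q1 k κ i i).comp (fa κ (Dp 1 k i))) = f.comp ((q2 k κ i i).comp (fa κ (Dp 1 k i))) := by
    apply P1Chart.hom_ext
    · intro a
      simp only [RingHom.comp_apply]
      rw [q1_cst k κ hκ]
    · simp only [RingHom.comp_apply]
      rw [w, map_sub, sub_eq_zero] at hw
      exact hw
  exact congr($h1 a)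

include hκ in
theorem q1_fa_sub_mem (a : Γ(CohB1.ProjSpace 1 k, Dp 1 k i)) :
    q1 k κ i i (fa κ (Dp 1 k i) a) - q2 k κ i i (fa κ (Dp 1 k i) a) ∈ Ideal.span {w k κ i} := by
  have h1 := q1_fa_eq k κ hκ i (Ideal.Quotient.mk (Ideal.span {w k κ i}))
    (Ideal.Quotient.eq_zero_iff_mem.2 (Ideal.mem_span_singleton_self _)) a
  rwa [← sub_eq_zero, ← map_sub, Ideal.Quotient.eq_zero_iff_mem] at h1

include hκ in
theorem mem_of_gm_eq_zero [IsFinite κ] (y : Γ(C, Ci k κ i)) (hy : Function.Surjective (pr κ y (Dp 1 k i) le_rfl))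
    (z : Γ(XX, W k κ i i)) (hz : gm k κ h hτ i i le_rfl le_rfl z = 0) :
    z ∈ Ideal.span {w k κ i, dl k κ h i y} := by
  set I := Ideal.span {w k κ i, dl k κ h i y} with hI
  have hw : Ideal.Quotient.mk I (w k κ i) = 0 := Ideal.Quotient.eq_zero_iff_mem.2 (Ideal.subset_span (by simp))
  have hd : Ideal.Quotient.mk I (dl k κ h i y) = 0 := Ideal.Quotient.eq_zero_iff_mem.2 (Ideal.subset_span (by simp))
  rw [dl, map_sub, sub_eq_zero] at hd
  have h1 : ((Ideal.Quotient.mk I).comp (q1 k κ i i)).comp (gm k κ h hτ i i le_rfl le_rfl) = Ideal.Quotient.mk I := by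
    apply hom_ext_W
    · ext a
      simp only [RingHom.comp_apply, gm_q1, ores_refl]
    · ext a
      simp only [RingHom.comp_apply, gm_q2, ores_refl]
      obtain ⟨p, rfl⟩ := hy a
      simp only [pr, ores_refl, map_add, map_mul, ts_fa]
      rw [hd, q1_fa_eq k κ hκ i _ hw, q1_fa_eq k κ hκ i _ hw]
  have h2 := congr($h1 z)
  simp only [RingHom.comp_apply, hz, map_zero] at h2
  exact Ideal.Quotient.eq_zero_iff_mem.1 h2.symm

instance [IsSeparated (C ↘ Spec (CommRingCat.of k))] : IsClosedImmersion (gr k τ hτ) := by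
  have h1 : IsClosedImmersion (gr k τ hτ ≫ p₁) := by
    rw [gr_fst]; infer_instance
  exact IsClosedImmersion.of_comp (gr k τ hτ) p₁

include hκ in
theorem ideal_gr [IsFinite κ] [IsSeparated (C ↘ Spec (CommRingCat.of k))] (y : Γ(C, Ci k κ i))
    (hy : Function.Surjective (pr κ y (Dp 1 k i) le_rfl)) :
    (gr k τ hτ).ker.ideal ⟨W k κ i i, isAffineOpen_W k κ i i⟩ = Ideal.span {w k κ i, dl k κ h i y} := by
  rw [Scheme.Hom.ker_apply]
  have h0 : ∀ z : Γ(XX, W k κ i i), z ∈ RingHom.ker ((gr k τ hτ).app (W k κ i i)).hom ↔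
      gm k κ h hτ i i le_rfl le_rfl z = 0 := by
    intro z
    rw [RingHom.mem_ker, gm, pl_eq_ores_fa]
    constructor
    · intro hz
      have hz' : fa (gr k τ hτ) (W k κ i i) z = 0 := hz
      rw [hz', map_zero]
    · intro hz
      have hle : gr k τ hτ ⁻¹ᵁ W k κ i i ≤ Ci k κ i := by
        rw [gr_preimage k κ h hτ i i]; exact inf_le_left
      have h1 := congrArg (ores hle) hz
      rw [ores_ores, ores_refl, map_zero] at h1
      exact h1
  ext z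
  rw [h0]
  constructor
  · exact mem_of_gm_eq_zero k κ hκ h hτ i y hy z
  · intro hz
    have h1 : Ideal.span {w k κ i, dl k κ h i y} ≤ RingHom.ker (gm k κ h hτ i i le_rfl le_rfl) := by
      rw [Ideal.span_le]
      intro a ha
      rcases ha with rfl | rfl
      · exact gm_w k κ h hτ i _
      · change gm k κ h hτ i i le_rfl le_rfl (dl k κ h i y) = 0
        rw [gm_dl, sub_self, map_zero]
    exact h1 hz

end Chart

end K980.Graph
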