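import Groth.Agent.HypSq.K980.Num
import Groth.Agent.S0007

/-!
# Intersection numbers on the square of a hyperelliptic curve
-/

set_option autoImplicit false
universe u

open CategoryTheory CategoryTheory.Limits AlgebraicGeometry Opposite TopologicalSpace

namespace K980.Inter

open Groth.Agent Groth.Agent.Fdesc.LocGen Groth.Agent.CurvesC.ProjSpaceBasic
open K980.P1Chart K980.DCover K980.Graph K980.Double K980.Invol K980.Kfour K980.Main K980.Num
open Groth.Agent.Picfga.LineHom Groth.Agent.Dix.IdealModCartier Groth.Agent.Grpsch.PicGrp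
open K980.PicNum K980.BoxNum K980.NumC K980.Setup

attribute [local instance] ov

/-- Vanishing above the dimension on a curve. -/
theorem van_curve (k : Type u) [Field k] {C : Scheme.{u}} [C.Over (Spec (CommRingCat.of k))]
    [IsProper (C ↘ Spec (CommRingCat.of k))] (hdim : topologicalKrullDim C ≤ 1) (c : Pic C) {i : ℕ} (hi : 2 ≤ i) :
    Van c i := by
  have h1 : IsLocallyNoetherian C := LocallyOfFiniteType.isLocallyNoetherian (C ↘ Spec (CommRingCat.of k))
  have h2 : CompactSpace C := (quasiCompact_iff_compactSpace (C ↘ Spec (CommRingCat.of k))).mp inferInstance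
  have h3 : IsNoetherian C := {}
  have : NoetherianSpace (C.toTopCat) := inferInstanceAs (NoetherianSpace C)
  exact S0458.result (X := C.toTopCat) 1 hdim (Coh.toAb (rep c)) i (by omega)

/-- The Euler characteristic of a point. -/
theorem chi_point (k : Type u) [Field k] [IsAlgClosed k] (c : Pic (Spec (CommRingCat.of k))) :
    letI : (Spec (CommRingCat.of k)).Over (Spec (CommRingCat.of k)) := ⟨𝟙 _⟩
    chi k c = 1 := by
  let iO : (Spec (CommRingCat.of k)).Over (Spec (CommRingCat.of k)) := ⟨𝟙 _⟩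
  have hp : IsProper (Spec (CommRingCat.of k) ↘ Spec (CommRingCat.of k)) := by
    change IsProper (𝟙 _)
    infer_instance
  have hc : c = 1 := pic_spec_local k c
  rw [hc, NumC.euler_eq_range k (1 : Pic (Spec (CommRingCat.of k))) 1 (fun i hi => by
    have : Coh.IsQCoh (rep (1 : Pic (Spec (CommRingCat.of k)))) := (isCoh (rep_inv _)).1
    exact S0007.result _ _ i (by omega)), Finset.sum_range_one, pow_zero, one_mul]
  have h1 : hd k (1 : Pic (Spec (CommRingCat.of k))) 0 = 1 := by
    rw [one_def, hd_mk]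
    exact VarietyA.CurveFin.finrank_h0_structure k _
  rw [h1]; rfl

/-- The degree of a point is one. -/
theorem dg_point (k : Type u) [Field k] [IsAlgClosed k] {C : Scheme.{u}} [C.Over (Spec (CommRingCat.of k))]
    [IsProper (C ↘ Spec (CommRingCat.of k))] [IsIntegral C]
    (x : Spec (CommRingCat.of k) ⟶ C) (hx : x ≫ (C ↘ Spec (CommRingCat.of k)) = 𝟙 _) {A : C.Modules}
    (hA : PicF.IsInvertible A) (hAinv : ClSub.IsInverseOf A (ClSub.idealMod x.ker)) : dg k (mk A hA) = 1 := by
  have hD := (isInvertible_of_isInverseOf hAinv).2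
  have h1 := inv_of_isInverseOf hA hD hAinv
  let iO : (Spec (CommRingCat.of k)).Over (Spec (CommRingCat.of k)) := ⟨𝟙 _⟩
  have hcl : IsClosedImmersion x := by
    have : IsClosedImmersion (x ≫ (C ↘ Spec (CommRingCat.of k))) := by rw [hx]; infer_instance
    exact IsClosedImmersion.of_comp x (C ↘ Spec (CommRingCat.of k))
  have h2 := PicNum.chi_eq x hD ⟨Iso.refl _⟩ k hx (mk A hA)
  rw [h1, mul_inv_cancel, chi_point k] at h2
  rw [dg, h2]
  ring

section

variable (k : Type u) [Field k] {C : Scheme.{u}} [C.Over (Spec (CommRingCat.of k))]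
  [IsProper (C ↘ Spec (CommRingCat.of k))] (hdim : topologicalKrullDim C ≤ 1)
  {τ : C ⟶ C} (hτ : τ ≫ (C ↘ Spec (CommRingCat.of k)) = C ↘ Spec (CommRingCat.of k))

omit [IsProper (C ↘ Spec (CommRingCat.of k))] in
include hτ in
theorem chi_pull_iso [IsIso τ] (c : Pic C) : chi k (pull τ c) = chi k c := by
  obtain ⟨L, hL, rfl⟩ := exists_mk c
  rw [pull_mk, chi_mk, chi_mk]
  exact CurvesC.DegIso.euler_pullback_iso k (asIso τ) hτ L

omit [IsProper (C ↘ Spec (CommRingCat.of k))] in
include hτ in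
theorem dg_pull_iso [IsIso τ] (c : Pic C) : dg k (pull τ c) = dg k c := by
  rw [dg, dg, chi_pull_iso k hτ]

variable {T : (pullback (C ↘ Spec (CommRingCat.of k)) (C ↘ Spec (CommRingCat.of k))).Modules} (hT : PicF.IsInvertible T)
  (hTinv : ClSub.IsInverseOf T (ClSub.idealMod (gr k τ hτ).ker))

include hdim in
theorem van_box (a b : Pic C) {i : ℕ} (hi : 3 ≤ i) : Van (bx k a b) i :=
  van_bx_ge k _ _ (fun _ => van_curve k hdim a) (fun _ => van_curve k hdim b) i hi

include hdim hTinv in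
theorem van_mul (c : Pic (pullback (C ↘ Spec (CommRingCat.of k)) (C ↘ Spec (CommRingCat.of k)))) {i : ℕ} (hi : 3 ≤ i)
    (h : Van c i) : Van (c * mk T hT) i := by
  have hD := (isInvertible_of_isInverseOf hTinv).2
  have h1 := inv_of_isInverseOf hT hD hTinv
  refine PicNum.van_of (gr k τ hτ) hD ⟨Iso.refl _⟩ _ i ?_ (van_curve k hdim _ (by omega))
  rw [h1, mul_assoc, mul_inv_cancel, mul_one]
  exact h

include hTinv in
theorem chi_mul_graph (c : Pic (pullback (C ↘ Spec (CommRingCat.of k)) (C ↘ Spec (CommRingCat.of k)))) :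
    chi k (c * mk T hT) = chi k c + chi k (pull (gr k τ hτ) (c * mk T hT)) := by
  have hD := (isInvertible_of_isInverseOf hTinv).2
  have h1 := inv_of_isInverseOf hT hD hTinv
  have := isProper_ov k (C := C)
  have h2 := PicNum.chi_eq (gr k τ hτ) hD ⟨Iso.refl _⟩ k (gr_over k hτ) (c * mk T hT)
  rwa [h1, mul_assoc, mul_inv_cancel, mul_one] at h2

include hTinv hdim in
/-- The intersection number with a graph. -/
theorem int_graph [IsIntegral C] (b : Pic (pullback (C ↘ Spec (CommRingCat.of k)) (C ↘ Spec (CommRingCat.of k)))) :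
    chi k (1 : Pic (pullback (C ↘ Spec (CommRingCat.of k)) (C ↘ Spec (CommRingCat.of k)))) - chi k b - chi k (mk T hT) +
      chi k (b * mk T hT) = dg k (pull (gr k τ hτ) b) := by
  have h1 := chi_mul_graph k hτ hT hTinv 1
  have h2 := chi_mul_graph k hτ hT hTinv b
  rw [one_mul] at h1
  rw [h1, h2, map_mul, NumC.chi_mul k hdim, dg]
  ring

/-- The intersection number of two classes without cohomology in degrees at least three. -/
theorem intNum_eq {L M : (pullback (C ↘ Spec (CommRingCat.of k)) (C ↘ Spec (CommRingCat.of k))).Modules}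
    (hL : PicF.IsInvertible L) (hM : PicF.IsInvertible M)
    (hdim : topologicalKrullDim C ≤ 1)
    (h2 : ∀ i, 3 ≤ i → Van (mk L hL) i)
    (h3 : ∀ i, 3 ≤ i → Van (mk M hM) i) (h4 : ∀ i, 3 ≤ i → Van (mk L hL * mk M hM) i) :
    FGA.intNum k (pullback (C ↘ Spec (CommRingCat.of k)) (C ↘ Spec (CommRingCat.of k))) 2 ![L, M]
      (Coh.structureModule (pullback (C ↘ Spec (CommRingCat.of k)) (C ↘ Spec (CommRingCat.of k)))) =
      chi k (1 : Pic (pullback (C ↘ Spec (CommRingCat.of k)) (C ↘ Spec (CommRingCat.of k)))) -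
        chi k (mk L hL) - chi k (mk M hM) + chi k (mk L hL * mk M hM) :=
  intNum_mk k hL hM (fun i hi => by rw [← bx_one]; exact van_box k hdim 1 1 hi) h2 h3 h4

include hdim hT hTinv in
/-- The intersection number of a module with a graph. -/
theorem intNum_graph [IsIntegral C]
    {L : (pullback (C ↘ Spec (CommRingCat.of k)) (C ↘ Spec (CommRingCat.of k))).Modules}
    (hL : PicF.IsInvertible L) (hv : ∀ i, 3 ≤ i → Van (mk L hL) i) :
    FGA.intNum k (pullback (C ↘ Spec (CommRingCat.of k)) (C ↘ Spec (CommRingCat.of k))) 2 ![L, T]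
      (Coh.structureModule (pullback (C ↘ Spec (CommRingCat.of k)) (C ↘ Spec (CommRingCat.of k)))) =
      dg k (pull (gr k τ hτ) (mk L hL)) := by
  rw [intNum_eq k hL hT hdim hv (fun i hi => ?_) (fun i hi => ?_), int_graph k hdim hτ hT hTinv]
  · rw [← one_mul (mk T hT)]
    exact van_mul k hdim hτ hT hTinv 1 hi (by rw [← bx_one]; exact van_box k hdim 1 1 hi)
  · exact van_mul k hdim hτ hT hTinv _ hi (hv i hi)

include hdim in
/-- The intersection number of two box products. -/
theorem intNum_box {L M : (pullback (C ↘ Spec (CommRingCat.of k)) (C ↘ Spec (CommRingCat.of k))).Modules}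
    (hL : PicF.IsInvertible L) (hM : PicF.IsInvertible M) [IsIntegral C] {a b c d : Pic C} (h1 : mk L hL = bx k a b)
    (h2 : mk M hM = bx k c d) :
    FGA.intNum k (pullback (C ↘ Spec (CommRingCat.of k)) (C ↘ Spec (CommRingCat.of k))) 2 ![L, M]
      (Coh.structureModule (pullback (C ↘ Spec (CommRingCat.of k)) (C ↘ Spec (CommRingCat.of k)))) =
      dg k a * dg k d + dg k b * dg k c := by
  rw [intNum_eq k hL hM hdim (fun i hi => by rw [h1]; exact van_box k hdim _ _ hi)
    (fun i hi => by rw [h2]; exact van_box k hdim _ _ hi)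
    (fun i hi => by rw [h1, h2, ← bx_mul]; exact van_box k hdim _ _ hi), h1, h2, ← bx_mul, ← bx_one,
    chi_bx k _ _ (fun _ => van_curve k hdim _) (fun _ => van_curve k hdim _),
    chi_bx k _ _ (fun _ => van_curve k hdim _) (fun _ => van_curve k hdim _),
    chi_bx k _ _ (fun _ => van_curve k hdim _) (fun _ => van_curve k hdim _),
    chi_bx k _ _ (fun _ => van_curve k hdim _) (fun _ => van_curve k hdim _),
    NumC.chi_mul k hdim, NumC.chi_mul k hdim, dg, dg, dg, dg]
  ring

omit [IsProper (C ↘ Spec (CommRingCat.of k))] in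
theorem mk_p1 {A : C.Modules} (hA : PicF.IsInvertible A) :
    mk _ (isInvertible_pullback (pullback.fst (C ↘ Spec (CommRingCat.of k)) (C ↘ Spec (CommRingCat.of k))) hA) =
      bx k (mk A hA) 1 := by
  rw [bx, map_one, mul_one, pull_mk]

omit [IsProper (C ↘ Spec (CommRingCat.of k))] in
theorem mk_p2 {A : C.Modules} (hA : PicF.IsInvertible A) :
    mk _ (isInvertible_pullback (pullback.snd (C ↘ Spec (CommRingCat.of k)) (C ↘ Spec (CommRingCat.of k))) hA) =
      bx k 1 (mk A hA) := by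
  rw [bx, map_one, one_mul, pull_mk]

end

section

variable (k : Type u) [Field k] {C : Scheme.{u}} (κ : C ⟶ CohB1.ProjSpace 1 k)
  [C.Over (Spec (CommRingCat.of k))] [IsAlgClosed k]
  [IsProper (C ↘ Spec (CommRingCat.of k))] [IsIntegral C] (hdim : topologicalKrullDim C ≤ 1)
  (g : ℕ) (hgen : Curv2.genus k C = g)
  (hκ : κ ≫ CohB1.ProjSpace.toSpec 1 k = (C ↘ Spec (CommRingCat.of k)))
  [IsFinite κ]
  {σ : C ⟶ C} (h : σ ≫ κ = κ) (hσ : σ ≫ (C ↘ Spec (CommRingCat.of k)) = C ↘ Spec (CommRingCat.of k))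
  (hσ1 : σ ≠ 𝟙 C)
  (y : ∀ i : Fin 2, Γ(C, κ ⁻¹ᵁ CurvesC.ProjSpaceBasic.Dp 1 k i))
  (hy : ∀ (i : Fin 2) (V : (CohB1.ProjSpace 1 k).Opens) (hV : V ≤ CurvesC.ProjSpaceBasic.Dp 1 k i),
    Function.Bijective (DCover.pr κ (y i) V hV))
  {N : (pullback (C ↘ Spec (CommRingCat.of k)) (C ↘ Spec (CommRingCat.of k))).Modules} (hN : PicF.IsInvertible N)
  (hNinv : ClSub.IsInverseOf N (ClSub.idealMod (gr k σ hσ).ker))
  {ND : (pullback (C ↘ Spec (CommRingCat.of k)) (C ↘ Spec (CommRingCat.of k))).Modules} (hND : PicF.IsInvertible ND)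
  (hNDinv : ClSub.IsInverseOf ND (ClSub.idealMod (gr k (𝟙 C) (Category.id_comp _)).ker))

include hgen hκ h hσ1 hy hN hNinv hNDinv in
theorem pull_diag_nd : pull (gr k (𝟙 C) (Category.id_comp _)) (mk ND hND) = ell k κ (1 - g) := by
  obtain ⟨hD, hS, e1, e2, e3, e4, e5, e6⟩ := facts k κ g hgen hκ h hσ hσ1 y hy hN hNinv
  have h1 : mk ND hND = (mk _ hD)⁻¹ := by rw [inv_of_isInverseOf hND hD hNDinv, inv_inv]
  rw [h1, map_inv, e6, inv_eq_iff_mul_eq_one, ← ell_add, ← ell_zero k κ]
  congr 1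
  ring

include hgen hκ h hσ1 hy hNinv in
theorem pull_diag_n : pull (gr k (𝟙 C) (Category.id_comp _)) (mk N hN) = ell k κ (g + 1) := by
  obtain ⟨hD, hS, e1, e2, e3, e4, e5, e6⟩ := facts k κ g hgen hκ h hσ hσ1 y hy hN hNinv
  have h1 : mk N hN = (mk _ hS)⁻¹ := by rw [e1, inv_inv]
  rw [h1, map_inv, e5, inv_eq_iff_mul_eq_one, ← ell_add, ← ell_zero k κ]
  congr 1
  ring

include hgen hκ h hσ1 hy hNinv hdim in
theorem chi_box_n (a b : Pic C) (r : ℕ) : chi k (bx k a b * mk N hN ^ r) =
    (dg k a - ((g : ℤ) - 1)) * (dg k b - ((g : ℤ) - 1)) + r * (dg k a + dg k b) - ((g : ℤ) - 1) * r * (r + 2) := by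
  have hi := isIso_sigma k κ hκ h hσ1 y hy
  have h1 := chi_structure k g hgen κ hκ y hy
  induction r with
  | zero =>
    rw [pow_zero, mul_one, chi_bx k _ _ (fun _ => van_curve k hdim _) (fun _ => van_curve k hdim _), dg, dg, h1]
    push_cast
    ring
  | succ r ih =>
    have h2 : pull (gr k σ hσ) (mk N hN) ^ (r + 1) = ell k κ ((1 - g) * (r + 1 : ℕ)) := by
      rw [pull_n k κ g hgen hκ h hσ hσ1 y hy hN hNinv, ell_eq_zpow k κ (1 - g), ← zpow_natCast, ← zpow_mul,
        ← ell_eq_zpow]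
    have h3 : pull (gr k σ hσ) (bx k a b * mk N hN ^ r * mk N hN) =
        a * pull σ b * ell k κ ((1 - g) * (r + 1 : ℕ)) := by
      rw [← h2, mul_assoc, ← pow_succ, map_mul, map_pow, pull_gr_bx]
    rw [pow_succ, ← mul_assoc, chi_mul_graph k hσ hN hNinv, ih, h3, NumC.chi_mul k hdim, NumC.chi_mul k hdim, chi_pull_iso k hσ, chi_ell k g hgen κ hκ y hy hdim,
      dg, dg, h1]
    push_cast
    ring

end

end K980.Inter
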