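import Groth.Agent.HypSq.K980.Kfour
import Groth.Agent.S10855

/-!
# The involution of a double cover is an involution

* `sigma_sq`: `σ ≫ σ = 𝟙 C`.
* `isEff_diag`: the diagonal is an effective Cartier divisor if the graph of `σ` is.
-/

set_option autoImplicit false
universe u

open CategoryTheory CategoryTheory.Limits AlgebraicGeometry Opposite TopologicalSpace

namespace K980.Invol

open Groth.Agent Groth.Agent.Fdesc.LocGen Groth.Agent.CurvesC.ProjSpaceBasic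
open K980.P1Chart K980.DCover K980.Graph K980.Double

variable (k : Type u) [Field k] {C : Scheme.{u}} (κ : C ⟶ CohB1.ProjSpace 1 k)
  [C.Over (Spec (CommRingCat.of k))]
  (hκ : κ ≫ CohB1.ProjSpace.toSpec 1 k = (C ↘ Spec (CommRingCat.of k)))
  [IsIntegral C] [IsFinite κ] [IsSeparated (C ↘ Spec (CommRingCat.of k))]
  {σ : C ⟶ C} (h : σ ≫ κ = κ) (hσ : σ ≫ (C ↘ Spec (CommRingCat.of k)) = C ↘ Spec (CommRingCat.of k))
  (hσ1 : σ ≠ 𝟙 C)
  (y : ∀ i : Fin 2, Γ(C, κ ⁻¹ᵁ Dp 1 k i))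
  (hy : ∀ (i : Fin 2) (V : (CohB1.ProjSpace 1 k).Opens) (hV : V ≤ Dp 1 k i), Function.Bijective (pr κ (y i) V hV))

omit [C.Over (Spec (CommRingCat.of k))] [IsIntegral C] [IsFinite κ] [IsSeparated (C ↘ Spec (CommRingCat.of k))] in
theorem ts_comp {τ τ' : C ⟶ C} (h : τ ≫ κ = κ) (h' : τ' ≫ κ = κ) (i : Fin 2) (a : Γ(C, Ci k κ i)) :
    ts k κ h i (ts k κ h' i a) = ts k κ (show (τ ≫ τ') ≫ κ = κ by rw [Category.assoc, h', h]) i a := by
  rw [ts, ts, ts, pl_pl]

include hκ h hσ1 hy in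
theorem sigma_sq : σ ≫ σ = 𝟙 C := by
  by_contra hne
  have h2 : (σ ≫ σ) ≫ κ = κ := by rw [Category.assoc, h, h]
  refine ts_ne k κ 0 (y 0) hκ (hy 0 _ le_rfl) h2 hne ?_
  rw [← ts_comp k κ h h]
  obtain ⟨c, n, hc⟩ := exists_quad k κ 0 (y 0) (hy 0 _ le_rfl)
  have h1 := ts_y_eq k κ 0 (y 0) (hy 0 _ le_rfl) h (ts_ne k κ 0 (y 0) hκ (hy 0 _ le_rfl) h hσ1) hc
  rw [h1, map_sub, ts_fa, h1, sub_sub_cancel]

include hκ h hσ1 hy in
theorem isIso_sigma : IsIso σ :=
  ⟨σ, sigma_sq k κ hκ h hσ1 y hy, sigma_sq k κ hκ h hσ1 y hy⟩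

local notation "XX" => pullback (C ↘ Spec (CommRingCat.of k)) (C ↘ Spec (CommRingCat.of k))
local notation "p₁" => pullback.fst (C ↘ Spec (CommRingCat.of k)) (C ↘ Spec (CommRingCat.of k))
local notation "p₂" => pullback.snd (C ↘ Spec (CommRingCat.of k)) (C ↘ Spec (CommRingCat.of k))

/-- `id × σ`. -/
noncomputable def ph : XX ⟶ XX := pullback.lift p₁ (p₂ ≫ σ) (by rw [Category.assoc, hσ, pullback.condition])

include hκ h hσ1 hy in
theorem isIso_ph : IsIso (ph k hσ) := by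
  have h1 : ph k hσ ≫ ph k hσ = 𝟙 _ := by
    apply pullback.hom_ext
    · rw [Category.assoc, ph, pullback.lift_fst, pullback.lift_fst, Category.id_comp]
    · rw [Category.assoc, ph, pullback.lift_snd, pullback.lift_snd_assoc, Category.assoc,
        sigma_sq k κ hκ h hσ1 y hy, Category.comp_id, Category.id_comp]
  exact ⟨ph k hσ, h1, h1⟩

omit [IsIntegral C] [IsSeparated (C ↘ Spec (CommRingCat.of k))] in
theorem gr_ph : gr k (𝟙 C) (Category.id_comp _) ≫ ph k hσ = gr k σ hσ := by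
  apply pullback.hom_ext
  · rw [Category.assoc, ph, pullback.lift_fst, gr_fst, gr_fst]
  · rw [Category.assoc, ph, pullback.lift_snd, ← Category.assoc, gr_snd, Category.id_comp, gr_snd]

include hκ h hσ1 hy in
theorem isEff_diag (hD : BlowUp.IsEffCartierIdeal (gr k σ hσ).ker) :
    BlowUp.IsEffCartierIdeal (gr k (𝟙 C) (Category.id_comp _)).ker := by
  have hi := isIso_ph k κ hκ h hσ hσ1 y hy
  have sq : IsPullback (gr k (𝟙 C) (Category.id_comp _)) (𝟙 C) (ph k hσ) (gr k σ hσ) :=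
    IsPullback.of_vert_isIso ⟨by rw [gr_ph, Category.id_comp]⟩
  have h1 : (gr k (𝟙 C) (Category.id_comp _)).ker = (gr k σ hσ).ker.comap (ph k hσ) := by
    rw [← Scheme.IdealSheafData.ker_fst_of_isClosedImmersion (gr k σ hσ) (ph k hσ), ← sq.isoPullback_hom_fst,
      Scheme.Hom.ker_comp_of_isIso]
  rw [h1]
  exact Groth.Agent.S10855.result (ph k hσ) _ hD

end K980.Invol
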