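import Groth.Agent.HypSq.K980.Setup
import Groth.Agent.HypSq.K980.Invol
import Groth.Agent.S0458

/-!
# Classes on the square of a hyperelliptic curve

`n` the class of the graph of the involution, `d` the class of the diagonal, `ell m` the class of `κ^* O(m)`,
`fc m` that of `p_1^* κ^* O(m) ⊗ p_2^* κ^* O(m)`: restriction of these classes to the two graphs.
-/

set_option autoImplicit false
universe u

open CategoryTheory CategoryTheory.Limits AlgebraicGeometry Opposite TopologicalSpace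

namespace K980.Main

open Groth.Agent Groth.Agent.Fdesc.LocGen Groth.Agent.CurvesC.ProjSpaceBasic
open K980.P1Chart K980.DCover K980.Graph K980.Double K980.Invol K980.Kfour
open Groth.Agent.Picfga.LineHom Groth.Agent.Dix.IdealModCartier Groth.Agent.Grpsch.PicGrp
open K980.PicNum K980.BoxNum K980.NumC K980.Setup

variable (k : Type u) [Field k] {C : Scheme.{u}} (κ : C ⟶ CohB1.ProjSpace 1 k)
  [C.Over (Spec (CommRingCat.of k))]

local notation "XX" => pullback (C ↘ Spec (CommRingCat.of k)) (C ↘ Spec (CommRingCat.of k))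
local notation "p₁" => pullback.fst (C ↘ Spec (CommRingCat.of k)) (C ↘ Spec (CommRingCat.of k))
local notation "p₂" => pullback.snd (C ↘ Spec (CommRingCat.of k)) (C ↘ Spec (CommRingCat.of k))

section Pull

variable {τ : C ⟶ C} (hτ : τ ≫ (C ↘ Spec (CommRingCat.of k)) = C ↘ Spec (CommRingCat.of k))

theorem pull_gr_bx (a b : Pic C) : pull (gr k τ hτ) (bx k a b) = a * pull τ b := by
  rw [bx, map_mul, ← pull_comp, ← pull_comp, gr_fst, gr_snd, pull_id]

omit [C.Over (Spec (CommRingCat.of k))] in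
theorem pull_ell (h : τ ≫ κ = κ) (m : ℤ) : pull τ (ell k κ m) = ell k κ m := by
  rw [ell, ← pull_comp, h]

theorem pull_gr_fc (h : τ ≫ κ = κ) (m : ℤ) : pull (gr k τ hτ) (fc k κ m) = ell k κ (2 * m) := by
  rw [fc, pull_gr_bx, pull_ell k κ h, ← ell_add, two_mul]

end Pull

theorem inv_of_isInverseOf {X : Scheme.{u}} {L M : X.Modules} (hL : PicF.IsInvertible L) (hM : PicF.IsInvertible M)
    (h : ClSub.IsInverseOf L M) : mk M hM = (mk L hL)⁻¹ := by
  rw [eq_inv_iff_mul_eq_one, mul_comm, mk_mul_mk, mk_eq_one_iff]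
  exact h

variable [IsAlgClosed k]
  [IsProper (C ↘ Spec (CommRingCat.of k))] [IsIntegral C] (g : ℕ) (hgen : Curv2.genus k C = g)
  (hκ : κ ≫ CohB1.ProjSpace.toSpec 1 k = (C ↘ Spec (CommRingCat.of k)))
  [IsFinite κ]
  {σ : C ⟶ C} (h : σ ≫ κ = κ) (hσ : σ ≫ (C ↘ Spec (CommRingCat.of k)) = C ↘ Spec (CommRingCat.of k))
  (hσ1 : σ ≠ 𝟙 C)
  (y : ∀ i : Fin 2, Γ(C, κ ⁻¹ᵁ CurvesC.ProjSpaceBasic.Dp 1 k i))
  (hy : ∀ (i : Fin 2) (V : (CohB1.ProjSpace 1 k).Opens) (hV : V ≤ CurvesC.ProjSpaceBasic.Dp 1 k i),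
    Function.Bijective (DCover.pr κ (y i) V hV))
  {N : (pullback (C ↘ Spec (CommRingCat.of k)) (C ↘ Spec (CommRingCat.of k))).Modules} (hN : PicF.IsInvertible N) (hNinv : ClSub.IsInverseOf N (ClSub.idealMod (gr k σ hσ).ker))

omit [IsAlgClosed k] [IsProper (C ↘ Spec (CommRingCat.of k))] [IsIntegral C] [IsFinite κ] in
include hNinv in
theorem isInvertible_gr : PicF.IsInvertible (ClSub.idealMod (gr k σ hσ).ker) :=
  (isInvertible_of_isInverseOf hNinv).2

include hgen hκ h hσ1 hy hNinv in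
/-- The classes of the two graphs: `s` the class of the ideal of the graph of `σ`, `d` that of the diagonal. -/
theorem facts : ∃ (hD : PicF.IsInvertible (ClSub.idealMod (gr k (𝟙 C) (Category.id_comp _)).ker))
    (hS : PicF.IsInvertible (ClSub.idealMod (gr k σ hσ).ker)),
    mk _ hS = (mk N hN)⁻¹ ∧ fc k κ 1 * (mk _ hD * mk _ hS) = 1 ∧
    pull (gr k σ hσ) (mk _ hS) = ell k κ (g - 1) ∧ pull (gr k σ hσ) (mk _ hD) = ell k κ (-(g + 1)) ∧
    pull (gr k (𝟙 C) (Category.id_comp _)) (mk _ hS) = ell k κ (-(g + 1)) ∧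
    pull (gr k (𝟙 C) (Category.id_comp _)) (mk _ hD) = ell k κ (g - 1) := by
  have hne : ∀ i, ts k κ h i (y i) ≠ y i := fun i => ts_ne k κ i (y i) hκ (hy i _ le_rfl) h hσ1
  have hS := (isInvertible_of_isInverseOf hNinv).2
  have hD := isInvertible_idealMod (isEff_diag k κ hκ h hσ hσ1 y hy (isEffCartierIdeal_of_isInverseOf hNinv))
  have e1 : mk _ hS = (mk N hN)⁻¹ := inv_of_isInverseOf hN hS hNinv
  have e2 : fc k κ 1 * (mk _ hD * mk _ hS) = 1 := by
    have := mul_eq_one k κ hκ h hσ y hy hne hD hS (isInvertible_tensorMod (isInvertible_pullback _ (isInvertible_L k κ))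
      (isInvertible_pullback _ (isInvertible_L k κ)))
    rw [fc, ← mk_L, bx_mk]
    exact this
  have e3 : pull (gr k σ hσ) (mk _ hD) = ell k κ (-(g + 1)) := by
    rw [pull_mk_idealMod k κ hκ y hy h hσ (Category.id_comp κ) (Category.id_comp _)
      (fun i => by rw [ts_id]; exact (hne i).symm) hD, ell, ← Q_eq k g hgen κ hκ y hy]
    rfl
  have e4 : pull (gr k (𝟙 C) (Category.id_comp _)) (mk _ hS) = ell k κ (-(g + 1)) := by
    rw [pull_mk_idealMod k κ hκ y hy (Category.id_comp κ) (Category.id_comp _) h hσ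
      (fun i => by rw [ts_id]; exact hne i) hS, ell, ← Q_eq k g hgen κ hκ y hy]
    rfl
  refine ⟨hD, hS, e1, e2, ?_, e3, e4, ?_⟩
  · have h1 := congrArg (pull (gr k σ hσ)) e2
    rw [map_mul, map_mul, map_one, pull_gr_fc k κ hσ h, e3, ← mul_assoc, ← ell_add, mul_eq_one_iff_inv_eq] at h1
    rw [← h1, inv_eq_iff_mul_eq_one, ← ell_add, ← ell_zero k κ]
    congr 1
    ring
  · have h1 := congrArg (pull (gr k (𝟙 C) (Category.id_comp _))) e2
    rw [map_mul, map_mul, map_one, pull_gr_fc k κ (Category.id_comp _) (Category.id_comp _), e4,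
      mul_comm (pull _ _), ← mul_assoc, ← ell_add, mul_eq_one_iff_inv_eq] at h1
    rw [← h1, inv_eq_iff_mul_eq_one, ← ell_add, ← ell_zero k κ]
    congr 1
    ring

end K980.Main
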