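import Groth.Agent.HypSq.K980.Main

/-!
# Cohomology of the classes `fc m * n ^ r` on the square of a hyperelliptic curve
-/

set_option autoImplicit false
universe u

open CategoryTheory CategoryTheory.Limits AlgebraicGeometry Opposite TopologicalSpace

namespace K980.Num

open Groth.Agent Groth.Agent.Fdesc.LocGen Groth.Agent.CurvesC.ProjSpaceBasic
open K980.P1Chart K980.DCover K980.Graph K980.Double K980.Invol K980.Kfour K980.Main
open Groth.Agent.Picfga.LineHom Groth.Agent.Dix.IdealModCartier Groth.Agent.Grpsch.PicGrp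
open K980.PicNum K980.BoxNum K980.NumC K980.Setup

attribute [local instance] ov

variable (k : Type u) [Field k] {C : Scheme.{u}} (κ : C ⟶ CohB1.ProjSpace 1 k)
  [C.Over (Spec (CommRingCat.of k))]

theorem gr_over {τ : C ⟶ C} (hτ : τ ≫ (C ↘ Spec (CommRingCat.of k)) = C ↘ Spec (CommRingCat.of k)) :
    gr k τ hτ ≫ (pullback (C ↘ Spec (CommRingCat.of k)) (C ↘ Spec (CommRingCat.of k)) ↘ Spec (CommRingCat.of k)) =
      C ↘ Spec (CommRingCat.of k) := by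
  change gr k τ hτ ≫ pullback.fst (C ↘ Spec (CommRingCat.of k)) (C ↘ Spec (CommRingCat.of k)) ≫
    (C ↘ Spec (CommRingCat.of k)) = _
  rw [← Category.assoc, gr_fst, Category.id_comp]

variable [IsAlgClosed k]
  [IsProper (C ↘ Spec (CommRingCat.of k))] [IsIntegral C] (g : ℕ) (hgen : Curv2.genus k C = g)
  (hκ : κ ≫ CohB1.ProjSpace.toSpec 1 k = (C ↘ Spec (CommRingCat.of k)))
  [IsFinite κ]
  {σ : C ⟶ C} (h : σ ≫ κ = κ) (hσ : σ ≫ (C ↘ Spec (CommRingCat.of k)) = C ↘ Spec (CommRingCat.of k))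
  (hσ1 : σ ≠ 𝟙 C)
  (y : ∀ i : Fin 2, Γ(C, κ ⁻¹ᵁ CurvesC.ProjSpaceBasic.Dp 1 k i))
  (hy : ∀ (i : Fin 2) (V : (CohB1.ProjSpace 1 k).Opens) (hV : V ≤ CurvesC.ProjSpaceBasic.Dp 1 k i),
    Function.Bijective (DCover.pr κ (y i) V hV))
  {N : (pullback (C ↘ Spec (CommRingCat.of k)) (C ↘ Spec (CommRingCat.of k))).Modules} (hN : PicF.IsInvertible N)
  (hNinv : ClSub.IsInverseOf N (ClSub.idealMod (gr k σ hσ).ker))

include hgen hκ h hσ1 hy hNinv in
/-- The restriction of the class of the graph to the graph. -/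
theorem pull_n : pull (gr k σ hσ) (mk N hN) = ell k κ (1 - g) := by
  obtain ⟨hD, hS, e1, e2, e3, e4, e5, e6⟩ := facts k κ g hgen hκ h hσ hσ1 y hy hN hNinv
  have h1 : mk N hN = (mk _ hS)⁻¹ := by rw [e1, inv_inv]
  rw [h1, map_inv, e3, inv_eq_iff_mul_eq_one, ← ell_add, ← ell_zero k κ]
  congr 1
  ring

include hgen hκ h hσ1 hy hNinv in
theorem pull_fn (m : ℤ) (r : ℕ) : pull (gr k σ hσ) (fc k κ m * mk N hN ^ r) = ell k κ (2 * m - (g - 1) * r) := by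
  rw [map_mul, map_pow, pull_gr_fc k κ hσ h, pull_n k κ g hgen hκ h hσ hσ1 y hy hN hNinv, ← zpow_natCast,
    ell_eq_zpow k κ (1 - g), ← zpow_mul, ← ell_eq_zpow, ← ell_add]
  congr 1
  ring

omit [IsAlgClosed k] [IsProper (C ↘ Spec (CommRingCat.of k))] [IsIntegral C] [IsFinite κ] in
/-- Twisting down along the graph. -/
theorem mul_ideal (hS : PicF.IsInvertible (ClSub.idealMod (gr k σ hσ).ker)) (e1 : mk _ hS = (mk N hN)⁻¹)
    (c : Pic (pullback (C ↘ Spec (CommRingCat.of k)) (C ↘ Spec (CommRingCat.of k)))) (r : ℕ) :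
    c * mk N hN ^ (r + 1) * mk _ hS = c * mk N hN ^ r := by
  rw [e1, pow_succ, mul_assoc, mul_assoc, mul_inv_cancel, mul_one]

include hgen hκ h hσ1 hy hNinv in
/-- Vanishing in degree at least three. -/
theorem van_three (m : ℤ) (r : ℕ) {i : ℕ} (hi : 3 ≤ i) : Van (fc k κ m * mk N hN ^ r) i := by
  obtain ⟨hD, hS, e1, -⟩ := facts k κ g hgen hκ h hσ hσ1 y hy hN hNinv
  induction r with
  | zero =>
    rw [pow_zero, mul_one]
    exact van_bx_ge k _ _ (fun _ => van_ge_two k g hgen κ hκ y hy m) (fun _ => van_ge_two k g hgen κ hκ y hy m) i hi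
  | succ r ih =>
    refine PicNum.van_of (gr k σ hσ) hS ⟨Iso.refl _⟩ _ i ?_ ?_
    · rw [mul_ideal k hσ hN hS e1]; exact ih
    · rw [pull_fn k κ g hgen hκ h hσ hσ1 y hy hN hNinv]
      exact van_ge_two k g hgen κ hκ y hy _ (by omega)

include hgen hκ h hσ1 hy hNinv in
theorem van_two {m : ℤ} (hm : g ≤ m) (r : ℕ) : Van (fc k κ m * mk N hN ^ r) 2 := by
  obtain ⟨hD, hS, e1, -⟩ := facts k κ g hgen hκ h hσ hσ1 y hy hN hNinv
  induction r with
  | zero =>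
    rw [pow_zero, mul_one]
    exact van_fc k κ g hgen hκ y hy hm (by omega)
  | succ r ih =>
    refine PicNum.van_of (gr k σ hσ) hS ⟨Iso.refl _⟩ _ 2 ?_ ?_
    · rw [mul_ideal k hσ hN hS e1]; exact ih
    · rw [pull_fn k κ g hgen hκ h hσ hσ1 y hy hN hNinv]
      exact van_ge_two k g hgen κ hκ y hy _ le_rfl

include hgen hκ h hσ1 hy hNinv in
theorem van_one (hg : 1 ≤ g) {m : ℤ} (hm : g ≤ m) (r : ℕ) (hr : ((g : ℤ) - 1) * (r + 1) < 2 * m) :
    Van (fc k κ m * mk N hN ^ r) 1 := by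
  obtain ⟨hD, hS, e1, -⟩ := facts k κ g hgen hκ h hσ hσ1 y hy hN hNinv
  induction r with
  | zero =>
    rw [pow_zero, mul_one]
    exact van_fc k κ g hgen hκ y hy hm le_rfl
  | succ r ih =>
    push_cast at hr
    refine PicNum.van_of (gr k σ hσ) hS ⟨Iso.refl _⟩ _ 1 ?_ ?_
    · rw [mul_ideal k hσ hN hS e1]; exact ih (by nlinarith)
    · rw [pull_fn k κ g hgen hκ h hσ hσ1 y hy hN hNinv]
      refine NumC.van_one k g hgen κ hκ y hy ?_
      push_cast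
      nlinarith

include hgen hκ h hσ1 hy hNinv in
theorem chi_fn (hdim : topologicalKrullDim C ≤ 1) (m : ℤ) (r : ℕ) : chi k (fc k κ m * mk N hN ^ r) =
    (2 * m - ((g : ℤ) - 1)) ^ 2 + 4 * m * r - ((g : ℤ) - 1) * r * (r + 2) := by
  obtain ⟨hD, hS, e1, -⟩ := facts k κ g hgen hκ h hσ hσ1 y hy hN hNinv
  have := isProper_ov k (C := C)
  induction r with
  | zero =>
    rw [pow_zero, mul_one, fc, chi_bx k _ _ (fun _ => van_ge_two k g hgen κ hκ y hy m)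
      (fun _ => van_ge_two k g hgen κ hκ y hy m), chi_ell k g hgen κ hκ y hy hdim]
    push_cast
    ring
  | succ r ih =>
    rw [PicNum.chi_eq (gr k σ hσ) hS ⟨Iso.refl _⟩ k (gr_over k hσ), mul_ideal k hσ hN hS e1, ih,
      pull_fn k κ g hgen hκ h hσ hσ1 y hy hN hNinv, chi_ell k g hgen κ hκ y hy hdim]
    push_cast
    ring

include hgen hκ h hσ1 hy hNinv in
theorem hd_zero_fn (hg : 1 ≤ g) (hdim : topologicalKrullDim C ≤ 1) {m : ℤ} (hm : g ≤ m) (r : ℕ)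
    (hr : ((g : ℤ) - 1) * (r + 1) < 2 * m) : (hd k (fc k κ m * mk N hN ^ r) 0 : ℤ) =
    (2 * m - ((g : ℤ) - 1)) ^ 2 + 4 * m * r - ((g : ℤ) - 1) * r * (r + 2) := by
  rw [← chi_fn k κ g hgen hκ h hσ hσ1 y hy hN hNinv hdim]
  have := euler_eq_range k (fc k κ m * mk N hN ^ r) 1 (fun i hi => by
    rcases Nat.lt_or_ge i 3 with h3 | h3
    · interval_cases i
      · exact van_one k κ g hgen hκ h hσ hσ1 y hy hN hNinv hg hm r hr
      · exact van_two k κ g hgen hκ h hσ hσ1 y hy hN hNinv hm r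
    · exact van_three k κ g hgen hκ h hσ hσ1 y hy hN hNinv m r h3)
  rw [this, Finset.sum_range_one, pow_zero, one_mul]

include hgen hκ h hσ1 hy hNinv in
/-- Sections of `fc m * n ^ (r+1)`. -/
theorem hd_zero_succ (hg : 1 ≤ g) {m : ℤ} (hm : g ≤ m) (r : ℕ) (hr : ((g : ℤ) - 1) * (r + 1) < 2 * m) :
    hd k (fc k κ m * mk N hN ^ (r + 1)) 0 =
      hd k (fc k κ m * mk N hN ^ r) 0 + hd k (ell k κ (2 * m - (g - 1) * (r + 1 : ℕ))) 0 := by
  obtain ⟨hD, hS, e1, -⟩ := facts k κ g hgen hκ h hσ hσ1 y hy hN hNinv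
  have := isProper_ov k (C := C)
  rw [PicNum.hd_zero_add (gr k σ hσ) hS ⟨Iso.refl _⟩ k (gr_over k hσ) _ (by
    rw [mul_ideal k hσ hN hS e1]; exact van_one k κ g hgen hκ h hσ hσ1 y hy hN hNinv hg hm r hr),
    mul_ideal k hσ hN hS e1, pull_fn k κ g hgen hκ h hσ hσ1 y hy hN hNinv]

include hgen hκ h hσ1 hy hNinv in
theorem hd_zero_succ_of_neg {m : ℤ} (r : ℕ) (hr : 2 * m < ((g : ℤ) - 1) * (r + 1)) :
    hd k (fc k κ m * mk N hN ^ (r + 1)) 0 = hd k (fc k κ m * mk N hN ^ r) 0 := by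
  obtain ⟨hD, hS, e1, -⟩ := facts k κ g hgen hκ h hσ hσ1 y hy hN hNinv
  have := isProper_ov k (C := C)
  rw [PicNum.hd_zero_eq (gr k σ hσ) hS ⟨Iso.refl _⟩ k _ (by
    rw [pull_fn k κ g hgen hκ h hσ hσ1 y hy hN hNinv]
    refine NumC.van_zero k g hgen κ hκ y hy ?_
    push_cast
    linarith), mul_ideal k hσ hN hS e1]

include hgen hκ h hσ1 hy hNinv in
/-- `H^1` of `fc m * n ^ (r+1)`. -/
theorem hd_one_succ (hg : 1 ≤ g) {m : ℤ} (hm : g ≤ m) (r : ℕ) (hr : ((g : ℤ) - 1) * (r + 1) < 2 * m) :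
    hd k (fc k κ m * mk N hN ^ (r + 1)) 1 = hd k (ell k κ (2 * m - (g - 1) * (r + 1 : ℕ))) 1 := by
  obtain ⟨hD, hS, e1, -⟩ := facts k κ g hgen hκ h hσ hσ1 y hy hN hNinv
  have := isProper_ov k (C := C)
  rw [PicNum.hd_eq_of_van (gr k σ hσ) hS ⟨Iso.refl _⟩ k (gr_over k hσ) _ 1 (by
    rw [mul_ideal k hσ hN hS e1]; exact van_one k κ g hgen hκ h hσ hσ1 y hy hN hNinv hg hm r hr) (by
    rw [mul_ideal k hσ hN hS e1]; exact van_two k κ g hgen hκ h hσ hσ1 y hy hN hNinv hm r),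
    pull_fn k κ g hgen hκ h hσ hσ1 y hy hN hNinv]

end K980.Num
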