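import Groth.Agent.HypSq.K980.P1Num
import Groth.Agent.HypSq.K980.CokerQ
import Groth.Agent.VarietyB.ProjForm
import Groth.Agent.VarietyB.HHPush
import Groth.Agent.VarietyA.DegRank
import Groth.Agent.VarietyA.CurveFin
import Groth.Agent.CycB.ModStalk
import Groth.Agent.S2329
import Groth.Agent.S1697

/-!
# Cohomology of `κ^* O(n)` on a double cover of the projective line

`κ : C ⟶ P^1` finite flat of rank two, `g` the genus; `Q` the cokernel of `O ⟶ κ_* O_C` is `O(-(g+1))` (`Q_eq`);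
`ell n` the class of `κ^* O(n)`:
`van_one`, `van_zero`, `van_ge_two`, `hd_zero`, `hd_one`, `chi_ell`.
-/

set_option autoImplicit false
universe u

open CategoryTheory CategoryTheory.Limits AlgebraicGeometry Opposite TopologicalSpace

namespace K980.NumC

open Groth.Agent Groth.Agent.Grpsch.PicGrp K980.PicNum K980.P1Num K980.CokerQ K980.DCover
open Groth.Agent.Fdesc.LocGen (isInvertible_tensorMod isInvertible_pullback)
open Groth.Agent.CurvesC.ProjSpaceBasic

theorem euler_eq_range (k : Type u) [Field k] {X : Scheme.{u}} [X.Over (Spec (CommRingCat.of k))] (c : Pic X) (N : ℕ)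
    (h : ∀ i, N ≤ i → Van c i) : chi k c = ∑ i ∈ Finset.range N, (-1 : ℤ) ^ i * (hd k c i : ℤ) := by
  unfold chi Curv2.euler
  apply finsum_eq_sum_of_support_subset
  intro n hn
  rw [Function.mem_support] at hn
  rw [Finset.coe_range, Set.mem_Iio]
  by_contra h1
  apply hn
  have : Subsingleton (Coh.HH X (rep c) n) := h n (by omega)
  rw [Module.finrank_zero_of_subsingleton, Nat.cast_zero, mul_zero]

section Push

variable {X Y : Scheme.{u}} (f : X ⟶ Y) [IsAffineHom f] (k : Type u) [Field k] [X.Over (Spec (CommRingCat.of k))]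
  [Y.Over (Spec (CommRingCat.of k))] (hf : f ≫ (Y ↘ Spec (CommRingCat.of k)) = X ↘ Spec (CommRingCat.of k))

include hf in
theorem finrank_push (c : Pic X) (n : ℕ) :
    Module.finrank k (Coh.HH Y ((Scheme.Modules.pushforward f).obj (rep c)) n) = hd k c n :=
  VarietyB.HHPush.finrank_HH_push f k hf (rep c) (isCoh (rep_inv c)).1 n

include hf in
theorem subsingleton_push_iff (c : Pic X) (n : ℕ) :
    Subsingleton (Coh.HH Y ((Scheme.Modules.pushforward f).obj (rep c)) n) ↔ Van c n := by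
  obtain ⟨e⟩ := VarietyB.HHPush.exists_linearEquiv f k hf (rep c) (isCoh (rep_inv c)).1 n
  exact e.toEquiv.subsingleton_congr

end Push

section Deg

variable (k : Type u) [Field k] {X : Scheme.{u}} [X.Over (Spec (CommRingCat.of k))]

theorem finrank_stalk {M : X.Modules} (hM : PicF.IsInvertible M) (y : X) :
    Module.finrank (X.presheaf.stalk y) (M.presheaf.stalk y) = 1 := by
  obtain ⟨t, ht⟩ := CycB.ModStalk.exists_isGen hM y
  have e : X.presheaf.stalk y ≃ₗ[X.presheaf.stalk y] M.presheaf.stalk y :=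
    LinearEquiv.ofBijective (LinearMap.toSpanSingleton _ _ t) ht
  rw [← e.finrank_eq, Module.finrank_self]

/-- Additivity of the degree on an integral proper curve. -/
theorem chi_mul [IsIntegral X] [IsProper (X ↘ (Spec (CommRingCat.of k)))] (hdim : topologicalKrullDim X ≤ 1)
    (c d : Pic X) : chi k (c * d) = chi k c + chi k d - chi k (1 : Pic X) := by
  obtain ⟨M, hM, rfl⟩ := exists_mk c
  obtain ⟨N, hN, rfl⟩ := exists_mk d
  have h : Curv2.euler k X (CohB1.tensorMod M N) =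
      (Module.finrank (X.presheaf.stalk (genericPoint X)) (N.presheaf.stalk (genericPoint X)) : ℤ) *
        Curv2.deg k X M 1 + (1 : ℕ) * Curv2.euler k X N :=
    Groth.Agent.VarietyA.DegRank.euler_tensor_curve k hdim 1 M
    (Ega2.QCohLocal.isFinLocFreeOfRank_one_iff.2 hM) N (Groth.Agent.S2329.isCoh_of_isInvertible hN)
  rw [finrank_stalk hN] at h
  rw [mk_mul_mk, one_def, chi_mk, chi_mk, chi_mk, chi_mk, h, Curv2.deg]
  push_cast
  ring

/-- The degree of a class on a curve. -/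
noncomputable def dg (c : Pic X) : ℤ := chi k c - chi k (1 : Pic X)

/-- The degree as a homomorphism. -/
noncomputable def dgHom [IsIntegral X] [IsProper (X ↘ (Spec (CommRingCat.of k)))] (hdim : topologicalKrullDim X ≤ 1) :
    Pic X →* Multiplicative ℤ :=
  MonoidHom.mk' (fun c => Multiplicative.ofAdd (dg k c)) (fun c d => by
    rw [← ofAdd_add, dg, dg, dg, chi_mul k hdim]
    congr 1
    ring)

theorem dg_mul [IsIntegral X] [IsProper (X ↘ (Spec (CommRingCat.of k)))] (hdim : topologicalKrullDim X ≤ 1)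
    (c d : Pic X) : dg k (c * d) = dg k c + dg k d :=
  congrArg Multiplicative.toAdd (map_mul (dgHom k hdim) c d)

theorem dg_pow [IsIntegral X] [IsProper (X ↘ (Spec (CommRingCat.of k)))] (hdim : topologicalKrullDim X ≤ 1)
    (c : Pic X) (n : ℕ) : dg k (c ^ n) = n * dg k c := by
  have := congrArg Multiplicative.toAdd (map_pow (dgHom k hdim) c n)
  rw [toAdd_pow, nsmul_eq_mul] at this
  exact this

theorem dg_zpow [IsIntegral X] [IsProper (X ↘ (Spec (CommRingCat.of k)))] (hdim : topologicalKrullDim X ≤ 1)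
    (c : Pic X) (n : ℤ) : dg k (c ^ n) = n * dg k c := by
  have := congrArg Multiplicative.toAdd (map_zpow (dgHom k hdim) c n)
  rw [toAdd_zpow, smul_eq_mul] at this
  exact this

theorem dg_inv [IsIntegral X] [IsProper (X ↘ (Spec (CommRingCat.of k)))] (hdim : topologicalKrullDim X ≤ 1)
    (c : Pic X) : dg k (c⁻¹) = - dg k c :=
  congrArg Multiplicative.toAdd (map_inv (dgHom k hdim) c)

end Deg

section Seq

variable (k : Type u) [Field k] {C : Scheme.{u}} (κ : C ⟶ CohB1.ProjSpace 1 k)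
  (y : ∀ i : Fin 2, Γ(C, κ ⁻¹ᵁ Dp 1 k i))
  (hy : ∀ (i : Fin 2) (V : (CohB1.ProjSpace 1 k).Opens) (hV : V ≤ Dp 1 k i), Function.Bijective (pr κ (y i) V hV))

/-- The class of `κ^* O(n)`. -/
noncomputable def ell (n : ℤ) : Pic C := pull κ (tw k n)

theorem ell_add (m n : ℤ) : ell k κ (m + n) = ell k κ m * ell k κ n := by
  rw [ell, tw_add, map_mul]; rfl

theorem ell_zero : ell k κ 0 = 1 := by
  rw [ell, tw_zero, map_one]

theorem ell_eq_zpow (n : ℤ) : ell k κ n = ell k κ 1 ^ n := by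
  rw [ell, tw_eq_zpow, map_zpow]; rfl

/-- The class of `Q`. -/
noncomputable def qc : Pic (CohB1.ProjSpace 1 k) :=
  mk (Q κ) (isInvertible_Q κ (fun i => Dp 1 k i) (iSup_Dp 1 k) y hy)

theorem exists_seq (c : Pic (CohB1.ProjSpace 1 k)) :
    ∃ S : ShortComplex (CohB1.ProjSpace 1 k).Modules, S.ShortExact ∧ Nonempty (S.X₁ ≅ rep c) ∧
      Nonempty (S.X₂ ≅ (Scheme.Modules.pushforward κ).obj (rep (pull κ c))) ∧
      Nonempty (S.X₃ ≅ rep (c * qc k κ y hy)) := by
  have hS := CokerQ.shortExact κ (fun i => Dp 1 k i) (iSup_Dp 1 k) y hy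
  have hb := VarietyB.TensCoh.HasBases.of_isFinLocFree (isFinLocFree (rep_inv c))
  have h1 := VarietyB.ExactLoc.tensor_shortExact hb _ hS
  have h2 : Nonempty (CohB1.tensorMod (rep c) (Q κ) ≅ rep (c * qc k κ y hy)) := by
    rw [← mk_eq_iff (isInvertible_tensorMod (rep_inv c) (isInvertible_Q κ (fun i => Dp 1 k i) (iSup_Dp 1 k) y hy))
      (rep_inv _), ← mk_mul_mk (rep_inv c) (isInvertible_Q κ (fun i => Dp 1 k i) (iSup_Dp 1 k) y hy), mk_rep, mk_rep]
    rfl
  have h3 : Nonempty ((Scheme.Modules.pullback κ).obj (rep c) ≅ rep (pull κ c)) := by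
    rw [← mk_eq_iff (isInvertible_pullback κ (rep_inv c)) (rep_inv _), ← pull_mk κ (rep_inv c), mk_rep, mk_rep]
  obtain ⟨e3⟩ := h3
  exact ⟨_, h1, ⟨Ega2.Tens.runit _⟩, ⟨VarietyB.ProjForm.projIsoUnit κ hb ≪≫ (Scheme.Modules.pushforward κ).mapIso e3⟩, h2⟩

variable [IsFinite κ] [C.Over (Spec (CommRingCat.of k))]
  (hκ : κ ≫ CohB1.ProjSpace.toSpec 1 k = (C ↘ Spec (CommRingCat.of k)))

include hκ hy in
theorem van_of (c : Pic (CohB1.ProjSpace 1 k)) (n : ℕ) (h1 : Van c n) (h3 : Van (c * qc k κ y hy) n) :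
    Van (pull κ c) n := by
  obtain ⟨S, hS, ⟨e1⟩, ⟨e2⟩, ⟨e3⟩⟩ := exists_seq k κ y hy c
  have h := mid_van S hS n ((subsingleton_congr e1 n).2 h1) ((subsingleton_congr e3 n).2 h3)
  exact (subsingleton_push_iff κ k hκ (pull κ c) n).1 ((subsingleton_congr e2 n).1 h)

include hκ in
theorem hd_zero_add [IsProper (C ↘ Spec (CommRingCat.of k))] (c : Pic (CohB1.ProjSpace 1 k)) (h : Van c 1) :
    hd k (pull κ c) 0 = hd k c 0 + hd k (c * qc k κ y hy) 0 := by
  obtain ⟨S, hS, ⟨e1⟩, ⟨e2⟩, ⟨e3⟩⟩ := exists_seq k κ y hy c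
  have hfin : Module.Finite k (Coh.HH (CohB1.ProjSpace 1 k) S.X₂ 0) := by
    obtain ⟨e⟩ := VarietyB.HHPush.exists_linearEquiv κ k hκ (rep (pull κ c)) (isCoh (rep_inv _)).1 0
    have h0 : Module.Finite k (Coh.HH C (rep (pull κ c)) 0) := finite_hh k (isCoh (rep_inv _)) 0
    have h1 : Module.Finite k (Coh.HH (CohB1.ProjSpace 1 k) ((Scheme.Modules.pushforward κ).obj (rep (pull κ c))) 0) :=
      Module.Finite.equiv e.symm
    exact Module.Finite.equiv (CurvesA.HHMap.equivOver k e2 0).symm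
  have h := h0_add S hS k hfin ((subsingleton_congr e1 1).2 h)
  rw [CurvesC.DegIso.finrank_congr k e1, CurvesC.DegIso.finrank_congr k e2,
    CurvesC.DegIso.finrank_congr k e3, finrank_push κ k hκ] at h
  exact h

include hκ in
theorem hd_eq_of_van (c : Pic (CohB1.ProjSpace 1 k)) (n : ℕ) (h1 : Van c n) (h2 : Van c (n + 1)) :
    hd k (pull κ c) n = hd k (c * qc k κ y hy) n := by
  obtain ⟨S, hS, ⟨e1⟩, ⟨e2⟩, ⟨e3⟩⟩ := exists_seq k κ y hy c
  have h := h_eq_three S hS k n ((subsingleton_congr e1 n).2 h1) ((subsingleton_congr e1 (n + 1)).2 h2)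
  rw [CurvesC.DegIso.finrank_congr k e2, CurvesC.DegIso.finrank_congr k e3, finrank_push κ k hκ] at h
  exact h

end Seq

section Main

variable (k : Type u) [Field k] [IsAlgClosed k] {C : Scheme.{u}} [C.Over (Spec (CommRingCat.of k))]
  [IsProper (C ↘ Spec (CommRingCat.of k))] [IsIntegral C] (g : ℕ) (hgen : Curv2.genus k C = g)
  (κ : C ⟶ CohB1.ProjSpace 1 k) (hκ : κ ≫ CohB1.ProjSpace.toSpec 1 k = (C ↘ Spec (CommRingCat.of k)))
  [IsFinite κ]
  (y : ∀ i : Fin 2, Γ(C, κ ⁻¹ᵁ Dp 1 k i))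
  (hy : ∀ (i : Fin 2) (V : (CohB1.ProjSpace 1 k).Opens) (hV : V ≤ Dp 1 k i), Function.Bijective (pr κ (y i) V hV))

theorem hd_structure : hd k (1 : Pic C) 0 = 1 := by
  rw [one_def, hd_mk]
  exact VarietyA.CurveFin.finrank_h0_structure k C

include hgen hκ in
/-- The cokernel of `O ⟶ κ_* O_C` is `O(-(g+1))`. -/
theorem Q_eq : qc k κ y hy = tw k (-(g + 1)) := by
  obtain ⟨e, he⟩ := Groth.Agent.S1697.result k 1 (Q κ) (isInvertible_Q κ (fun i => Dp 1 k i) (iSup_Dp 1 k) y hy)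
  have hq : qc k κ y hy = tw k e := (mk_eq_iff _ _).2 he
  have h0 := hd_zero_add k κ y hy hκ 1 (by rw [← tw_zero]; exact P1Num.van_one k (by omega))
  have h1 := NumC.hd_eq_of_van k κ y hy hκ 1 1 (by rw [← tw_zero]; exact P1Num.van_one k (by omega))
    (by rw [← tw_zero]; exact P1Num.van_ge_two k 0 (by omega))
  have h2 : hd k (1 : Pic (CohB1.ProjSpace 1 k)) 0 = 1 := by
    rw [← tw_zero, P1Num.hd_zero]; rfl
  have h3 : hd k (1 : Pic C) 1 = g := by
    rw [one_def, hd_mk]; exact hgen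
  rw [map_one, one_mul, hq, hd_structure, h2, P1Num.hd_zero] at h0
  rw [map_one, one_mul, hq, h3, P1Num.hd_one] at h1
  rw [hq]
  congr 1
  omega

include hgen hκ hy in
theorem van_one {n : ℤ} (h : g ≤ n) : Van (ell k κ n) 1 := by
  refine van_of k κ y hy hκ _ 1 (P1Num.van_one k (by omega)) ?_
  rw [Q_eq k g hgen κ hκ y hy, ← tw_add]
  exact P1Num.van_one k (by omega)

include hgen hκ hy in
theorem van_zero {n : ℤ} (h : n < 0) : Van (ell k κ n) 0 := by
  refine van_of k κ y hy hκ _ 0 (P1Num.van_zero k (by omega)) ?_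
  rw [Q_eq k g hgen κ hκ y hy, ← tw_add]
  exact P1Num.van_zero k (by omega)

include hgen hκ hy in
theorem van_ge_two (n : ℤ) {i : ℕ} (h : 2 ≤ i) : Van (ell k κ n) i := by
  refine van_of k κ y hy hκ _ i (P1Num.van_ge_two k _ h) ?_
  rw [Q_eq k g hgen κ hκ y hy, ← tw_add]
  exact P1Num.van_ge_two k _ h

include hgen hκ hy in
theorem hd_zero {n : ℤ} (h : -1 ≤ n) : (hd k (ell k κ n) 0 : ℤ) = (n + 1) + ((n - g).toNat : ℤ) := by
  have h1 := hd_zero_add k κ y hy hκ (tw k n) (P1Num.van_one k h)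
  rw [Q_eq k g hgen κ hκ y hy, ← tw_add, P1Num.hd_zero, P1Num.hd_zero] at h1
  rw [ell, h1]
  push_cast
  omega

include hgen hκ hy in
theorem hd_one {n : ℤ} (h : -1 ≤ n) : (hd k (ell k κ n) 1 : ℤ) = ((g - n).toNat : ℤ) := by
  have h1 := NumC.hd_eq_of_van k κ y hy hκ (tw k n) 1 (P1Num.van_one k h) (P1Num.van_ge_two k _ le_rfl)
  rw [Q_eq k g hgen κ hκ y hy, ← tw_add, P1Num.hd_one] at h1
  rw [ell, h1]
  omega

include hgen hκ hy in
theorem chi_of_ge {n : ℤ} (h : -1 ≤ n) : chi k (ell k κ n) = 2 * n + 1 - g := by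
  rw [euler_eq_range k _ 2 (fun i hi => van_ge_two k g hgen κ hκ y hy n hi), Finset.sum_range_succ,
    Finset.sum_range_one, hd_zero k g hgen κ hκ y hy h, hd_one k g hgen κ hκ y hy h]
  omega

include hgen hκ hy in
theorem chi_structure : chi k (1 : Pic C) = 1 - g := by
  have h := chi_of_ge k g hgen κ hκ y hy (n := 0) (by omega)
  rw [ell_zero] at h
  rw [h]
  ring

include hgen hκ hy in
theorem dg_ell (hdim : topologicalKrullDim C ≤ 1) (n : ℤ) : dg k (ell k κ n) = 2 * n := by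
  rw [ell_eq_zpow, dg_zpow k hdim]
  have h1 : dg k (ell k κ 1) = 2 := by
    rw [dg, chi_of_ge k g hgen κ hκ y hy (n := 1) (by omega), chi_structure k g hgen κ hκ y hy]
    ring
  rw [h1]
  ring

include hgen hκ hy in
theorem chi_ell (hdim : topologicalKrullDim C ≤ 1) (n : ℤ) : chi k (ell k κ n) = 2 * n + 1 - g := by
  have h := dg_ell k g hgen κ hκ y hy hdim n
  rw [dg, chi_structure k g hgen κ hκ y hy] at h
  linarith

end Main

end K980.NumC
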