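import Groth.Agent.HypSq.K980.PicNum
import Groth.Agent.Ega2.TwistInv
import Groth.Agent.CurvesC.ProjSpaceBasic
import Groth.Agent.S0843
import Groth.Agent.S0844
import Groth.Agent.S0845

/-!
# Cohomology of the classes `O(n)` on the projective line

`tw k n : Pic (P^1_k)` is the class of `O(n)`; `tw_eq_zpow`, `van_zero`, `van_one`, `van_ge_two`, `hd_zero`, `hd_one`.
-/

set_option autoImplicit false
universe u

open CategoryTheory CategoryTheory.Limits AlgebraicGeometry Opposite TopologicalSpace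

namespace K980.P1Num

open Groth.Agent.Grpsch.PicGrp K980.PicNum Groth.Agent.CurvesC.ProjSpaceBasic

theorem finrank_homogeneous_two (k : Type u) [Field k] (d : ℕ) :
    Module.finrank k ↥(MvPolynomial.homogeneousSubmodule (Fin 2) k d) = d + 1 := by
  rw [MvPolynomial.homogeneousSubmodule_eq_finsupp_supported]
  have e := AddMonoidAlgebra.supportedEquivFinsupp (S := k) (R := k) {x : Fin 2 →₀ ℕ | x.degree = d}
  rw [LinearEquiv.finrank_eq e]
  let e2 : Fin (d + 1) ≃ {x : Fin 2 →₀ ℕ | x.degree = d} :=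
    { toFun := fun i => ⟨Finsupp.equivFunOnFinite.symm ![i, d - i], by
        simp [Finsupp.degree_eq_sum, Fin.sum_univ_two]; omega⟩
      invFun := fun x => ⟨x.1 0, by
        have := x.2
        simp [Finsupp.degree_eq_sum, Fin.sum_univ_two] at this
        omega⟩
      left_inv := fun i => by ext; simp
      right_inv := fun x => by
        have := x.2
        simp [Finsupp.degree_eq_sum, Fin.sum_univ_two] at this
        ext j
        fin_cases j
        · simp
        · simp; omega }
  rw [← LinearEquiv.finrank_eq (Finsupp.domLCongr e2)]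
  simp

variable (k : Type u) [Field k]

theorem coveredByOne : Groth.Agent.Ega2.TwistInv.CoveredByOne (CohB1.polyGrading 1 k) := by
  intro x
  have hx : x ∈ (⨆ i, Dp 1 k i : (CohB1.ProjSpace 1 k).Opens) := by rw [iSup_Dp]; trivial
  obtain ⟨i, hi⟩ := Opens.mem_iSup.1 hx
  exact ⟨Xh 1 k i, Dp 1 k i, hi, fun y hy => hy⟩

theorem isInvertible_tw (n : ℤ) : PicF.IsInvertible (Twist.twistProjSpace 1 k n) :=
  Groth.Agent.Ega2.TwistInv.isInvertible_twist (coveredByOne k) n

/-- The class of `O(n)`. -/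
noncomputable def tw (n : ℤ) : Pic (CohB1.ProjSpace 1 k) := mk (Twist.twistProjSpace 1 k n) (isInvertible_tw k n)

theorem tw_add (m n : ℤ) : tw k (m + n) = tw k m * tw k n := by
  have := Groth.Agent.Ega2.TwistInv.isIso_mulHom (coveredByOne k) (m := m) (n := n) rfl
  symm
  rw [tw, tw, mk_mul_mk, tw, mk_eq_iff]
  exact ⟨@asIso _ _ _ _ _ this⟩

/-- `tw` as a group homomorphism. -/
noncomputable def twHom : Multiplicative ℤ →* Pic (CohB1.ProjSpace 1 k) :=
  MonoidHom.mk' (fun n => tw k n.toAdd) (fun _ _ => tw_add k _ _)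

theorem tw_zero : tw k 0 = 1 := (twHom k).map_one

theorem tw_eq_zpow (n : ℤ) : tw k n = tw k 1 ^ n := by
  have h1 : (Multiplicative.ofAdd n : Multiplicative ℤ) = (Multiplicative.ofAdd (1 : ℤ)) ^ n := by
    rw [← ofAdd_zsmul, smul_eq_mul, mul_one]
  have h2 := congrArg (twHom k) h1
  rw [map_zpow] at h2
  exact h2

theorem van_zero {n : ℤ} (h : n < 0) : Van (tw k n) 0 :=
  (van_mk _ _).2 (Groth.Agent.S0844.result k 1 n 0 (by omega) (by omega))

theorem van_one {n : ℤ} (h : -1 ≤ n) : Van (tw k n) 1 :=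
  (van_mk _ _).2 (Groth.Agent.S0844.result k 1 n 1 (by omega) (by push_cast; omega))

theorem van_ge_two (n : ℤ) {i : ℕ} (h : 2 ≤ i) : Van (tw k n) i :=
  (van_mk _ _).2 (Groth.Agent.S0844.result k 1 n i (by omega) (by omega))

theorem hd_zero (n : ℤ) : hd k (tw k n) 0 = (n + 1).toNat := by
  rcases le_or_gt 0 n with h | h
  · obtain ⟨d, rfl⟩ := Int.eq_ofNat_of_zero_le h
    obtain ⟨e⟩ := Groth.Agent.S0843.result k 1 d
    rw [tw, hd_mk]
    refine e.finrank_eq.trans ((finrank_homogeneous_two k d).trans ?_)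
    omega
  · have : Subsingleton (Coh.HH (CohB1.ProjSpace 1 k) (rep (tw k n)) 0) := van_zero k h
    rw [hd, Module.finrank_zero_of_subsingleton]
    omega

theorem hd_one (n : ℤ) : hd k (tw k n) 1 = (-n - 1).toNat := by
  rcases le_or_gt (-1) n with h | h
  · have : Subsingleton (Coh.HH (CohB1.ProjSpace 1 k) (rep (tw k n)) 1) := van_one k h
    rw [hd, Module.finrank_zero_of_subsingleton]
    omega
  · obtain ⟨j, hj⟩ : ∃ j : ℕ, n = -(((1 : ℕ) : ℤ) + 1 + j) := ⟨(-n - 2).toNat, by omega⟩
    obtain ⟨e⟩ := Groth.Agent.S0845.result k 1 j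
    rw [tw, hd_mk, hj]
    refine e.finrank_eq.trans ((finrank_homogeneous_two k j).trans ?_)
    push_cast
    omega

end K980.P1Num
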