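import Groth.Agent.Grpsch.PicGrp
import Groth.Agent.CurvesC.DegIso
import Groth.Agent.VarietyB.HHLes
import Groth.Agent.VarietyB.RestrSeq
import Groth.Agent.Dix.IdealModCartier
import Groth.Agent.Ega3B.CohTensor
import Groth.Agent.CurvesB.UnitCoh
import Groth.Agent.CohqB.LocalQC
import Groth.Agent.VarietyA.EulerAdd
import Groth.Agent.CohqA.AffPush
import Groth.Agent.Ega2.QCohLocal
import Groth.Agent.S1524

/-!
# Cohomological numbers of classes in the Picard group, and restriction to a Cartier divisor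

* `hd k X c i`, `chi k X c`: `dim_k H^i` and Euler characteristic of a class `c : Pic X`.
* `exists_restr`: for a closed immersion `i : Z ⟶ X` with ideal class `d` (`d = [I_Z]`), the short exact sequence
  `0 → c d → c → i_* i^* c → 0`.
* `van_of`, `hd_zero_add`, `hd_one_eq`, `hd_zero_eq`: consequences of the long exact sequence.
-/

set_option autoImplicit false
universe u

open CategoryTheory CategoryTheory.Limits AlgebraicGeometry Opposite

namespace K980.PicNum

open Groth.Agent.Grpsch.PicGrp Groth.Agent.VarietyB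
open Groth.Agent.Fdesc.LocGen (isInvertible_tensorMod isInvertible_pullback)

variable {X Z : Scheme.{u}}

/-- A representative of a class. -/
noncomputable def rep (c : Pic X) : X.Modules := (Quotient.out c).1

theorem rep_inv (c : Pic X) : PicF.IsInvertible (rep c) := (Quotient.out c).2

theorem mk_rep (c : Pic X) : mk (rep c) (rep_inv c) = c := Quotient.out_eq c

theorem rep_mk {L : X.Modules} (hL : PicF.IsInvertible L) : Nonempty (rep (mk L hL) ≅ L) :=
  (mk_eq_iff (rep_inv _) hL).1 (mk_rep _)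

/-- Vanishing of `H^i` of a class. -/
def Van (c : Pic X) (i : ℕ) : Prop := Subsingleton (Coh.HH X (rep c) i)

section

variable (k : Type u) [Field k] [X.Over (Spec (CommRingCat.of k))]

/-- `dim_k H^i` of a class. -/
noncomputable def hd (c : Pic X) (i : ℕ) : ℕ := Module.finrank k (Coh.HH X (rep c) i)

/-- Euler characteristic of a class. -/
noncomputable def chi (c : Pic X) : ℤ := Curv2.euler k X (rep c)

theorem hd_mk {L : X.Modules} (hL : PicF.IsInvertible L) (i : ℕ) :
    hd k (mk L hL) i = Module.finrank k (Coh.HH X L i) := by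
  obtain ⟨e⟩ := rep_mk hL
  exact Groth.Agent.CurvesC.DegIso.finrank_congr k e i

theorem chi_mk {L : X.Modules} (hL : PicF.IsInvertible L) :
    chi k (mk L hL) = Curv2.euler k X L := by
  obtain ⟨e⟩ := rep_mk hL
  exact Groth.Agent.CurvesC.DegIso.euler_congr k e

end

/-- An isomorphism of modules induces a bijection on cohomology. -/
theorem subsingleton_congr {M N : X.Modules} (e : M ≅ N) (i : ℕ) :
    Subsingleton (Coh.HH X M i) ↔ Subsingleton (Coh.HH X N i) :=
  (Groth.Agent.CurvesA.HHMap.equiv e i).toEquiv.subsingleton_congr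

theorem van_mk {L : X.Modules} (hL : PicF.IsInvertible L) (i : ℕ) :
    Van (mk L hL) i ↔ Subsingleton (Coh.HH X L i) := by
  obtain ⟨e⟩ := rep_mk hL
  exact subsingleton_congr e i

theorem isFinLocFree {L : X.Modules} (hL : PicF.IsInvertible L) : FlatMod.IsFinLocFree L := by
  have h := Groth.Agent.Ega2.QCohLocal.isFinLocFreeOfRank_one_iff.mpr hL
  intro x
  obtain ⟨U, hx, h⟩ := h x
  exact ⟨U, 1, hx, h⟩

theorem isCoh {L : X.Modules} (hL : PicF.IsInvertible L) : Coh.IsCoh L :=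
  Groth.Agent.CohqB.LocalQC.isCoh_of_iso (Groth.Agent.Ega2.Tens.lunit L)
    (Groth.Agent.Ega3B.CohTensor.isCoh_tensor (Groth.Agent.CurvesB.UnitCoh.isCoh_structureModule X) hL)

/-- `ι_* ι^* E ≅ i_* i^* E` if `i` and `ι` differ by an isomorphism of the sources. -/
theorem nonempty_pushPullIso {Z' : Scheme.{u}} (e : Z ≅ Z') (ι : Z' ⟶ X) (i : Z ⟶ X) (h : e.hom ≫ ι = i) (E : X.Modules) :
    Nonempty ((Scheme.Modules.pushforward ι).obj ((Scheme.Modules.pullback ι).obj E) ≅
      (Scheme.Modules.pushforward i).obj ((Scheme.Modules.pullback i).obj E)) := by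
  subst h
  exact ⟨(Scheme.Modules.pushforward ι).mapIso (Groth.Agent.CurvesC.DegIso.unitIso e ((Scheme.Modules.pullback ι).obj E)) ≪≫
    (Scheme.Modules.pushforwardComp e.hom ι).app _ ≪≫
    (Scheme.Modules.pushforward (e.hom ≫ ι)).mapIso ((Scheme.Modules.pullbackComp e.hom ι).app E)⟩

/-- `0 → E ⊗ I → E → i_* i^* E → 0` for a closed immersion `i` with ideal `I`. -/
theorem exists_shortExact (i : Z ⟶ X) [IsClosedImmersion i] {E : X.Modules} (hE : PicF.IsInvertible E) :
    ∃ (M : X.Modules) (f : CohB1.tensorMod E (ClSub.idealMod i.ker) ⟶ E) (g : E ⟶ M) (h : f ≫ g = 0),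
      (ShortComplex.mk f g h).ShortExact ∧
        Nonempty (M ≅ (Scheme.Modules.pushforward i).obj ((Scheme.Modules.pullback i).obj E)) := by
  have hB := Groth.Agent.VarietyB.TensCoh.HasBases.of_isFinLocFree (isFinLocFree hE)
  exact ⟨_, _, _, _, Groth.Agent.VarietyB.RestrSeq.restrSeq_shortExact hB i.ker,
    nonempty_pushPullIso (asIso i.toImage) i.ker.subschemeι i i.toImage_imageι E⟩

theorem isCoh_push (f : Z ⟶ X) [IsFinite f] {G : Z.Modules} (hG : Coh.IsCoh G) :
    Coh.IsCoh ((Scheme.Modules.pushforward f).obj G) :=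
  ⟨Groth.Agent.CohqA.AffPush.isQCoh_push f _ hG.1, Groth.Agent.CohqA.AffPush.isFT_push f _ hG.1 hG.2⟩

section Restr

variable (i : Z ⟶ X) [IsClosedImmersion i] {D : X.Modules} (hD : PicF.IsInvertible D)
  (hDi : Nonempty (D ≅ ClSub.idealMod i.ker))

include hDi in
/-- Class form of `exists_shortExact`. -/
theorem exists_restr (c : Pic X) : ∃ S : ShortComplex X.Modules, S.ShortExact ∧
    Nonempty (S.X₁ ≅ rep (c * mk D hD)) ∧ Nonempty (S.X₂ ≅ rep c) ∧
      Nonempty (S.X₃ ≅ (Scheme.Modules.pushforward i).obj (rep (pull i c))) := by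
  obtain ⟨M, f, g, h, hS, ⟨e⟩⟩ := exists_shortExact i (rep_inv c)
  obtain ⟨eD⟩ := hDi
  have h1 : Nonempty (CohB1.tensorMod (rep c) D ≅ rep (c * mk D hD)) := by
    rw [← mk_eq_iff (isInvertible_tensorMod (rep_inv c) hD) (rep_inv _), ← mk_mul_mk (rep_inv c) hD, mk_rep, mk_rep]
  have h2 : Nonempty ((Scheme.Modules.pullback i).obj (rep c) ≅ rep (pull i c)) := by
    rw [← mk_eq_iff (isInvertible_pullback i (rep_inv c)) (rep_inv _), ← pull_mk i (rep_inv c), mk_rep, mk_rep]
  obtain ⟨e1⟩ := h1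
  obtain ⟨e2⟩ := h2
  exact ⟨_, hS, ⟨Groth.Agent.Ega2.Tens.mapTIso (Iso.refl _) eD.symm ≪≫ e1⟩, ⟨Iso.refl _⟩,
    ⟨e ≪≫ (Scheme.Modules.pushforward i).mapIso e2⟩⟩

end Restr

section LES

open Groth.Agent.VarietyA.EulerLES Groth.Agent.VarietyA.EulerAdd

variable (S : ShortComplex X.Modules) (hS : S.ShortExact)

include hS in
theorem mid_van (n : ℕ) (h1 : Subsingleton (Coh.HH X S.X₁ n)) (h3 : Subsingleton (Coh.HH X S.X₃ n)) :
    Subsingleton (Coh.HH X S.X₂ n) := by
  refine subsingleton_of_forall_eq 0 fun x => ?_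
  obtain ⟨y, hy⟩ := (exact₂ S hS n x).1 (Subsingleton.elim _ _)
  rw [← hy, Subsingleton.elim y 0, map_zero]

variable (k : Type u) [Field k] [X.Over (Spec (CommRingCat.of k))]

include hS in
theorem h0_add (hf : Module.Finite k (Coh.HH X S.X₂ 0)) (h : Subsingleton (Coh.HH X S.X₁ 1)) :
    Module.finrank k (Coh.HH X S.X₂ 0) =
      Module.finrank k (Coh.HH X S.X₁ 0) + Module.finrank k (Coh.HH X S.X₃ 0) := by
  have hsurj : LinearMap.range (mapA k S.g 0) = ⊤ := by
    rw [LinearMap.range_eq_top]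
    intro x
    exact (exactA₃ k S hS 0 1 rfl x).1 (Subsingleton.elim _ _)
  rw [finrank_eq k S hS 0, finrank_eq₀ k S hS, hsurj, finrank_top]

include hS in
theorem h_eq_three (n : ℕ) (h1 : Subsingleton (Coh.HH X S.X₁ n)) (h2 : Subsingleton (Coh.HH X S.X₁ (n + 1))) :
    Module.finrank k (Coh.HH X S.X₂ n) = Module.finrank k (Coh.HH X S.X₃ n) := by
  refine (LinearEquiv.ofBijective (mapA k S.g n) ⟨?_, fun x => ?_⟩).finrank_eq
  · rw [← LinearMap.ker_eq_bot, LinearMap.ker_eq_bot']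
    intro x hx
    obtain ⟨y, hy⟩ := (exactA₂ k S hS n x).1 hx
    rw [← hy, Subsingleton.elim y 0, map_zero]
  · exact (exactA₃ k S hS n (n + 1) rfl x).1 (Subsingleton.elim _ _)

include hS in
theorem h0_eq (h : Subsingleton (Coh.HH X S.X₃ 0)) :
    Module.finrank k (Coh.HH X S.X₂ 0) = Module.finrank k (Coh.HH X S.X₁ 0) := by
  refine (LinearEquiv.ofBijective (mapA k S.f 0) ⟨injectiveA₀ k S hS, fun x => ?_⟩).finrank_eq.symm
  exact (exactA₂ k S hS 0 x).1 (Subsingleton.elim _ _)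

end LES

section Push

variable (i : Z ⟶ X) [IsClosedImmersion i]

theorem subsingleton_push (M : Z.Modules) (n : ℕ) :
    Subsingleton (Coh.HH X ((Scheme.Modules.pushforward i).obj M) n) ↔ Subsingleton (Coh.HH Z M n) :=
  (Groth.Agent.CurvesC.CurveNum.hhPush i M n).toEquiv.subsingleton_congr.symm

end Push

section Main

variable (i : Z ⟶ X) [IsClosedImmersion i] {D : X.Modules} (hD : PicF.IsInvertible D)
  (hDi : Nonempty (D ≅ ClSub.idealMod i.ker))

include hDi in
theorem van_of (c : Pic X) (n : ℕ) (h1 : Van (c * mk D hD) n) (h2 : Van (pull i c) n) : Van c n := by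
  obtain ⟨S, hS, ⟨e1⟩, ⟨e2⟩, ⟨e3⟩⟩ := exists_restr i hD hDi c
  exact (subsingleton_congr e2 n).1 (mid_van S hS n ((subsingleton_congr e1 n).2 h1)
    ((subsingleton_congr e3 n).2 ((subsingleton_push i _ n).2 h2)))

variable (k : Type u) [Field k] [X.Over (Spec (CommRingCat.of k))] [Z.Over (Spec (CommRingCat.of k))]
  (hi : i ≫ (X ↘ Spec (CommRingCat.of k)) = Z ↘ Spec (CommRingCat.of k))

theorem finite_hh [IsProper (X ↘ Spec (CommRingCat.of k))] {L : X.Modules} (hL : Coh.IsCoh L) (n : ℕ) :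
    Module.Finite k (Coh.HH X L n) := Groth.Agent.S0002.result k X L hL n

include hDi hi in
theorem chi_eq [IsProper (X ↘ Spec (CommRingCat.of k))] (c : Pic X) :
    chi k c = chi k (c * mk D hD) + chi k (pull i c) := by
  obtain ⟨S, hS, ⟨e1⟩, ⟨e2⟩, ⟨e3⟩⟩ := exists_restr i hD hDi c
  have h := Groth.Agent.S1524.result k X S hS
    (Groth.Agent.CohqB.LocalQC.isCoh_of_iso e1.symm (isCoh (rep_inv _)))
    (Groth.Agent.CohqB.LocalQC.isCoh_of_iso e2.symm (isCoh (rep_inv _)))
    (Groth.Agent.CohqB.LocalQC.isCoh_of_iso e3.symm (isCoh_push i (isCoh (rep_inv _))))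
  rw [Groth.Agent.CurvesC.DegIso.euler_congr k e1, Groth.Agent.CurvesC.DegIso.euler_congr k e2,
    Groth.Agent.CurvesC.DegIso.euler_congr k e3, Groth.Agent.CurvesC.DegIso.euler_push k i hi] at h
  exact h

include hDi hi in
theorem hd_zero_add [IsProper (X ↘ Spec (CommRingCat.of k))] (c : Pic X) (h : Van (c * mk D hD) 1) :
    hd k c 0 = hd k (c * mk D hD) 0 + hd k (pull i c) 0 := by
  obtain ⟨S, hS, ⟨e1⟩, ⟨e2⟩, ⟨e3⟩⟩ := exists_restr i hD hDi c
  have h := h0_add S hS k (finite_hh k (Groth.Agent.CohqB.LocalQC.isCoh_of_iso e2.symm (isCoh (rep_inv _))) 0)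
    ((subsingleton_congr e1 1).2 h)
  rw [Groth.Agent.CurvesC.DegIso.finrank_congr k e1, Groth.Agent.CurvesC.DegIso.finrank_congr k e2,
    Groth.Agent.CurvesC.DegIso.finrank_congr k e3, Groth.Agent.CurvesC.DegIso.finrank_push k i hi] at h
  exact h

include hDi hi in
theorem hd_eq_of_van (c : Pic X) (n : ℕ) (h1 : Van (c * mk D hD) n) (h2 : Van (c * mk D hD) (n + 1)) :
    hd k c n = hd k (pull i c) n := by
  obtain ⟨S, hS, ⟨e1⟩, ⟨e2⟩, ⟨e3⟩⟩ := exists_restr i hD hDi c
  have h := h_eq_three S hS k n ((subsingleton_congr e1 n).2 h1) ((subsingleton_congr e1 (n + 1)).2 h2)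
  rw [Groth.Agent.CurvesC.DegIso.finrank_congr k e2,
    Groth.Agent.CurvesC.DegIso.finrank_congr k e3, Groth.Agent.CurvesC.DegIso.finrank_push k i hi] at h
  exact h

omit [Z.Over (Spec (CommRingCat.of k))] in
include hDi in
theorem hd_zero_eq (c : Pic X) (h : Van (pull i c) 0) : hd k c 0 = hd k (c * mk D hD) 0 := by
  obtain ⟨S, hS, ⟨e1⟩, ⟨e2⟩, ⟨e3⟩⟩ := exists_restr i hD hDi c
  have h := h0_eq S hS k ((subsingleton_congr e3 0).2 ((subsingleton_push i _ 0).2 h))
  rw [Groth.Agent.CurvesC.DegIso.finrank_congr k e1, Groth.Agent.CurvesC.DegIso.finrank_congr k e2] at h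
  exact h

end Main

end K980.PicNum
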